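import Cfsg.Agent.H92.CoOneAutSetup
import Cfsg.Agent.H95.GolayInv

/-!
Code facts for the monomial 2-local of Co0: an elementary abelian subgroup of a Sylow 2-subgroup
of M24 fixes too few classes of code words, a fixed-point-free involution with a square root
fixing all its fixed words does not exist, and translations preserving the dodecads are trivial.
-/

set_option autoImplicit false
set_option maxRecDepth 100000

namespace Cfsg.Agent.H92.CoZero

open Cfsg Cfsg.Agent.Golay Cfsg.Agent.H63.M24Sylow Cfsg.Agent.H95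
open Cfsg.Agent.H92.CoOneAut (fixCl fixCl_iff card_mul_le)
open scoped Pointwise symmDiff

abbrev Pm := Equiv.Perm GolayPt

/-- The number of classes fixed by a table. -/
def clCount (T : ℕ) : ℕ := (codeList.filter (fixCl T)).length

/-- The number of words fixed by a table. -/
def wdCount (T : ℕ) : ℕ := (codeList.filter fun m => Nat.beq (tblImg T m) m).length

/-- Dodecads separating the translations. -/
def sepList : List ℕ :=
  [1814947, 4939331, 11223950, 9421005, 10971271, 6079721, 8632760]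

lemma count_facts : (validT invEight && validT invFree &&
    Nat.ble (clCount invEight) 256 && Nat.ble (clCount invFree) 256 &&
    Nat.beq (wdCount invEight) 256 && Nat.ble 64 (wdCount invFree) &&
    Nat.ble (wdCount invFree) 128) = true := by
  decide +kernel

attribute [local irreducible] codeList

lemma smul_compl (x : Pm) (s : Finset GolayPt) : x • sᶜ = (x • s)ᶜ := by
  ext p
  simp only [Finset.mem_compl, mem_smul_finset_iff]

lemma ptSet_full (m : ℕ) : ptSet (m ^^^ fullMask) = (ptSet m)ᶜ := by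
  rw [ptSet_xor, show ptSet fullMask = Finset.univ by decide +kernel]
  ext p
  simp [Finset.mem_symmDiff]

/-- A word fixed up to complement. -/
def FixC (U : Set Pm) (m : ℕ) : Prop :=
  ∀ x ∈ U, x • ptSet m = ptSet m ∨ x • ptSet m = (ptSet m)ᶜ

lemma fixCl_of {T m : ℕ} (hT : validT T = true) (hm : m ∈ codeList)
    (h : mkPerm T • ptSet m = ptSet m ∨ mkPerm T • ptSet m = (ptSet m)ᶜ) : fixCl T m = true := by
  rw [fixCl_iff hT (codeList_lt hm), ptSet_full]
  exact h

/-- Transport of words along an element of the code group. -/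
def moved (k : Pm) (S : Finset ℕ) : Finset ℕ := S.image fun m => maskOf (k • ptSet m)

lemma moved_spec {k : Pm} (hk : k ∈ M24) {S : Finset ℕ} (hS : ∀ m ∈ S, m ∈ codeList) :
    (moved k S).card = S.card ∧
      ∀ n ∈ moved k S, ∃ m ∈ S, n ∈ codeList ∧ ptSet n = k • ptSet m := by
  have hsup : ∀ m ∈ S, k • ptSet m ∈ supports (golayCode : Set (GolayPt → ZMod 2)) := fun m hm =>
    smul_mem_supports hk ((ptSet_mem_supports_iff (codeList_lt (hS m hm))).2 (hS m hm))
  refine ⟨Finset.card_image_of_injOn fun a ha b hb h => ?_, fun n hn => ?_⟩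
  · have h' := congrArg ptSet h
    simp only [ptSet_maskOf] at h'
    exact ptSet_injOn (codeList_lt (hS a ha)) (codeList_lt (hS b hb)) (smul_left_cancel k h')
  · obtain ⟨m, hm, rfl⟩ := Finset.mem_image.1 hn
    exact ⟨m, hm, mem_supports_iff.1 (hsup m hm), ptSet_maskOf _⟩

lemma moved_fix {k : Pm} {U : Set Pm} {m n : ℕ} (h : FixC U m) (hn : ptSet n = k • ptSet m) :
    FixC ((fun x => k * x * k⁻¹) '' U) n := by
  rintro _ ⟨x, hx, rfl⟩
  simp only [hn, mul_smul, inv_smul_smul]
  rcases h x hx with e | e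
  · left; rw [e]
  · right; rw [e, smul_compl]

/-- An involution fixes at most 256 classes. -/
lemma one_bound {x : Pm} (hx : x ∈ M24) (h2 : x * x = 1) (h1 : x ≠ 1) {S : Finset ℕ}
    (hS : ∀ m ∈ S, m ∈ codeList ∧ FixC {x} m) : S.card ≤ 256 := by
  obtain ⟨hf⟩ := PLift.up count_facts
  simp only [Bool.and_eq_true, Nat.ble_eq] at hf
  obtain ⟨⟨⟨⟨⟨⟨hvE, hvF⟩, hE⟩, hF⟩, -⟩, -⟩, -⟩ := hf
  obtain ⟨k, hk, T, hT, hTe, hTc⟩ : ∃ k ∈ M24, ∃ T, validT T = true ∧
      k * x * k⁻¹ = mkPerm T ∧ clCount T ≤ 256 := by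
    rcases fixed_octad hx (by rw [pow_two, h2]) h1 with ho | h0
    · obtain ⟨k, hk, e⟩ := conj_invEight hx h1 ho
      exact ⟨k, hk, _, hvE, e, hE⟩
    · obtain ⟨k, hk, e⟩ := conj_invFree hx (by rw [pow_two, h2]) h0
      exact ⟨k, hk, _, hvF, e, hF⟩
  obtain ⟨hc, hm⟩ := moved_spec hk fun m hm => (hS m hm).1
  rw [← hc]
  refine le_trans ((Finset.card_le_card fun n hn => ?_).trans (List.toFinset_card_le _)) hTc
  obtain ⟨m, hmS, hnc, hn'⟩ := hm n hn
  exact List.mem_toFinset.2 (List.mem_filter.2 ⟨hnc, fixCl_of hT hnc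
    (moved_fix (hS m hmS).2 hn' _ ⟨x, rfl, hTe⟩)⟩)

lemma card_pt : Nat.card GolayPt = 24 := by simp [GolayPt]

lemma exists_fixed {U : Subgroup Pm} (h : 16 ∣ Nat.card U) :
    ∃ x ∈ U, x ≠ 1 ∧ ∃ p, x p = p := by
  by_contra hc
  push Not at hc
  have hst : ∀ p : GolayPt, MulAction.stabilizer U p = ⊥ := fun p => by
    refine (Subgroup.eq_bot_iff_forall _).2 fun g hg => ?_
    by_contra hg1
    exact hc g.1 g.2 (fun e => hg1 (Subtype.ext e)) p hg
  have e := MulAction.selfEquivOrbitsQuotientProd hst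
  have := Nat.card_congr e
  rw [card_pt, Nat.card_prod] at this
  have : 16 ∣ 24 := this ▸ dvd_mul_of_dvd_right h _
  norm_num at this

lemma zP_mem_M24 : zP ∈ M24 := P0_le (At_le zP_mem)

lemma zP_octad : (Finset.univ.filter fun p => zP p = p) ∈ octads ∧ zP ≠ 1 := by
  obtain ⟨vo, vz, va, vs, vr, vl⟩ := valid_facts
  have hne : zP ≠ 1 := by
    intro e
    have := congrArg (fun σ : Pm => idx (σ (pt 0))) e
    simp only [zP, idx_mkPerm vz, Equiv.Perm.one_apply] at this
    revert this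
    decide +kernel
  refine ⟨(fixed_octad zP_mem_M24 (by rw [pow_two, zP_sq]) hne).resolve_right fun h => ?_, hne⟩
  obtain ⟨p, hp⟩ : ∃ p : GolayPt, app zT (idx p) = idx p := by decide +kernel
  exact h p (idx_injective (by rw [zP, idx_mkPerm vz, hp]))

/-- A 2-group of code permutations centralising the central involution moves into the Sylow
subgroup along its centraliser. -/
lemma exists_into_P0 {U : Subgroup Pm} (hU : U ≤ M24) (hp : IsPGroup 2 U)
    (hc : ∀ x ∈ U, x * zP = zP * x) :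
    ∃ c ∈ M24, c * zP = zP * c ∧ ∀ x ∈ U, c * x * c⁻¹ ∈ P0 := by
  haveI : Fact (Nat.Prime 2) := ⟨Nat.prime_two⟩
  set C : Subgroup Pm := M24 ⊓ Subgroup.centralizer {zP} with hC
  have hPC : P0 ≤ C := le_inf P0_le fun x hx =>
    Subgroup.mem_centralizer_singleton_iff.2 (zP_comm hx).symm
  have hUC : U ≤ C := le_inf hU fun x hx => Subgroup.mem_centralizer_singleton_iff.2 (hc x hx)
  have hidx : ¬ 2 ∣ (P0.subgroupOf C).index := by
    intro h2
    have hd : (P0.subgroupOf C).index ∣ (P0.subgroupOf M24).index :=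
      Dvd.intro _ (Subgroup.relIndex_mul_relIndex _ _ _ hPC inf_le_left)
    have h3 := (P0.subgroupOf M24).card_mul_index
    rw [Nat.card_congr (Subgroup.subgroupOfEquivOfLe P0_le).toEquiv, card_P0,
      Agent.Golay.card_M24] at h3
    have h4 : (P0.subgroupOf M24).index = 239085 :=
      Nat.eq_of_mul_eq_mul_left (by norm_num : 0 < 1024) (h3.trans (by norm_num))
    have := h2.trans hd
    rw [h4] at this
    norm_num at this
  let S : Sylow 2 C := ((IsPGroup.of_card (card_P0.trans (by norm_num : (1024 : ℕ) = 2 ^ 10))).of_equiv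
    (Subgroup.subgroupOfEquivOfLe hPC).symm).toSylow hidx
  obtain ⟨R, hR⟩ := (hp.of_equiv (Subgroup.subgroupOfEquivOfLe hUC).symm).exists_le_sylow
  obtain ⟨g, hg⟩ := MulAction.exists_smul_eq C R S
  refine ⟨g.1, g.2.1, Subgroup.mem_centralizer_singleton_iff.1 g.2.2, fun x hx => ?_⟩
  have hxR : (⟨x, hUC hx⟩ : C) ∈ (R : Subgroup C) := hR hx
  have : MulAut.conj g • (⟨x, hUC hx⟩ : C) ∈ ((g • R : Sylow 2 C) : Subgroup C) :=
    Subgroup.smul_mem_pointwise_smul _ _ _ hxR
  rw [hg] at this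
  exact this

set_option maxHeartbeats 400000 in
/-- An elementary abelian subgroup of the Sylow subgroup times its fixed classes. -/
theorem elab_bound (U : Subgroup Pm) (hU : U ≤ P0) (hne : U ≠ ⊥) (hexp : ∀ x ∈ U, x * x = 1)
    (hcomm : ∀ x ∈ U, ∀ y ∈ U, x * y = y * x) (S : Finset ℕ)
    (hS : ∀ m ∈ S, m ∈ codeList ∧ FixC U m) : Nat.card U * S.card ≤ 2048 := by
  haveI : Fact (Nat.Prime 2) := ⟨Nat.prime_two⟩
  have hp : IsPGroup 2 U :=
    (IsPGroup.of_card (card_P0.trans (by norm_num : (1024 : ℕ) = 2 ^ 10))).to_le hU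
  obtain ⟨k, hk⟩ := IsPGroup.iff_card.1 hp
  obtain ⟨y, hy, hy1⟩ := U.bot_or_exists_ne_one.resolve_left hne
  have h256 : ∀ x ∈ U, x ≠ 1 → S.card ≤ 256 := fun x hx hx1 =>
    one_bound (P0_le (hU hx)) (hexp x hx) hx1
      fun m hm => ⟨(hS m hm).1, fun z hz => (hS m hm).2 z (hz ▸ hx)⟩
  by_cases hk3 : k ≤ 3
  · calc Nat.card U * S.card ≤ 8 * 256 :=
        Nat.mul_le_mul (hk ▸ (Nat.pow_le_pow_right (by norm_num) hk3).trans le_rfl) (h256 y hy hy1)
      _ = 2048 := rfl
  obtain ⟨x, hx, hx1, p, hp'⟩ := exists_fixed (U := U)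
    (hk ▸ pow_dvd_pow 2 (show 4 ≤ k by omega))
  have hxM := P0_le (hU hx)
  have hxo := (fixed_octad hxM (by rw [pow_two, hexp x hx]) hx1).resolve_right fun h => h p hp'
  obtain ⟨a, ha, hae⟩ := conj_invEight hxM hx1 hxo
  obtain ⟨b, hb, hbe⟩ := conj_invEight zP_mem_M24 zP_octad.2 zP_octad.1
  set m0 : Pm := b⁻¹ * a with hm0
  have hm0M : m0 ∈ M24 := M24.mul_mem (M24.inv_mem hb) ha
  have hm0x : m0 * x * m0⁻¹ = zP := by
    rw [hm0, show b⁻¹ * a * x * (b⁻¹ * a)⁻¹ = b⁻¹ * (a * x * a⁻¹) * b by group, hae, ← hbe]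
    group
  set U1 := U.map (MulAut.conj m0).toMonoidHom with hU1
  have hU1M : U1 ≤ M24 := by
    rintro _ ⟨u, hu, rfl⟩
    exact M24.mul_mem (M24.mul_mem hm0M (P0_le (hU hu))) (M24.inv_mem hm0M)
  obtain ⟨c, hc, hcz, hcU⟩ := exists_into_P0 hU1M (hp.map _) (by
    rintro _ ⟨u, hu, rfl⟩
    rw [← hm0x]
    show MulAut.conj m0 u * MulAut.conj m0 x = MulAut.conj m0 x * MulAut.conj m0 u
    rw [← map_mul, ← map_mul, hcomm u hu x hx])
  set q : Pm := c * m0 with hq
  have hqM : q ∈ M24 := M24.mul_mem hc hm0M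
  set U2 := U.map (MulAut.conj q).toMonoidHom with hU2
  have hqu : ∀ u, (MulAut.conj q).toMonoidHom u = c * (m0 * u * m0⁻¹) * c⁻¹ := fun u => by
    show q * u * q⁻¹ = _
    rw [hq]; group
  have hcard : Nat.card U2 = Nat.card U :=
    Subgroup.card_map_of_injective (MulAut.conj q).injective
  obtain ⟨hSc, hSm⟩ := moved_spec hqM fun m hm => (hS m hm).1
  rw [← hcard, ← hSc]
  refine card_mul_le U2 ?_ ?_ ?_ ?_ ⟨k, hcard.trans hk⟩ _ ?_
  · rintro _ ⟨u, hu, rfl⟩
    rw [hqu]
    exact hcU _ ⟨u, hu, rfl⟩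
  · refine ⟨x, hx, ?_⟩
    rw [hqu, hm0x, hcz, mul_inv_cancel_right]
  · rintro _ ⟨u, hu, rfl⟩
    rw [← map_mul, hexp u hu, map_one]
  · rintro _ ⟨u, hu, rfl⟩ _ ⟨v, hv, rfl⟩
    rw [← map_mul, ← map_mul, hcomm u hu v hv]
  · intro n hn
    obtain ⟨m, hm, hnc, hn'⟩ := hSm n hn
    refine ⟨hnc, ?_⟩
    rintro _ ⟨u, hu, rfl⟩
    rw [ptSet_full]
    exact moved_fix (hS m hm).2 hn' _ ⟨u, hu, rfl⟩

set_option maxHeartbeats 400000 in
/-- A square root of a fixed-point-free involution moves one of its fixed words. -/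
theorem no_root {π σ : Pm} (hπ : π ∈ M24) (hroot : σ * σ = π) (hπ2 : π * π = 1)
    (hfree : ∀ p, π p ≠ p)
    (hfix : ∀ m ∈ codeList, π • ptSet m = ptSet m → σ • ptSet m = ptSet m) : False := by
  classical
  obtain ⟨hf⟩ := PLift.up count_facts
  simp only [Bool.and_eq_true, Nat.ble_eq] at hf
  obtain ⟨⟨⟨⟨⟨⟨hvE, hvF⟩, -⟩, -⟩, -⟩, h64⟩, -⟩ := hf
  obtain ⟨k, hk, hke⟩ := conj_invFree hπ (by rw [pow_two, hπ2]) hfree
  set W := (codeList.toFinset.filter fun m => π • ptSet m = ptSet m) with hW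
  have hWmem : ∀ m ∈ W, m ∈ codeList ∧ π • ptSet m = ptSet m := fun m hm => by
    rw [hW, Finset.mem_filter, List.mem_toFinset] at hm; exact hm
  have hW64 : 64 ≤ W.card := by
    refine h64.trans ?_
    rw [wdCount, ← List.toFinset_card_of_nodup (codeList_nodup.filter _)]
    obtain ⟨hc, hm⟩ := moved_spec (M24.inv_mem hk) (S := (codeList.filter fun m =>
      Nat.beq (tblImg invFree m) m).toFinset)
      (fun m hm => List.mem_of_mem_filter (List.mem_toFinset.1 hm))
    rw [← hc]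
    refine Finset.card_le_card fun n hn => ?_
    obtain ⟨m, hmS, hnc, hn'⟩ := hm n hn
    obtain ⟨hmc, hmf⟩ := List.mem_filter.1 (List.mem_toFinset.1 hmS)
    refine Finset.mem_filter.2 ⟨List.mem_toFinset.2 hnc, ?_⟩
    have hfm : mkPerm invFree • ptSet m = ptSet m := by
      rw [← ptSet_tblImg hvF, Nat.eq_of_beq_eq_true hmf]
    rw [hn', show π = k⁻¹ * mkPerm invFree * k by rw [← hke]; group, mul_smul, mul_smul,
      smul_inv_smul, hfm]
  have hσπ : ∀ p, σ (σ p) = π p := fun p => by rw [← hroot]; rfl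
  have hππ : ∀ p, π (π p) = p := fun p => by
    rw [← Equiv.Perm.mul_apply, hπ2]; rfl
  have hcm : ∀ p, σ (π p) = π (σ p) := fun p => by rw [← hσπ, hσπ]
  set O : GolayPt → Finset GolayPt := fun p => {p, σ p, π p, σ (π p)} with hO
  have h1 : ∀ p, σ p ≠ p := fun p e => hfree p (by rw [← hσπ, e, e])
  have h3 : ∀ p, σ (π p) ≠ p := fun p e => h1 p <| by
    conv_lhs => rw [← e, hσπ, hππ]
  have hO4 : ∀ p, (O p).card = 4 := fun p => by
    rw [hO]
    simp only
    rw [Finset.card_insert_of_notMem, Finset.card_insert_of_notMem, Finset.card_pair]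
    · exact fun e => h1 (π p) e.symm
    · simp only [Finset.mem_insert, Finset.mem_singleton, not_or]
      exact ⟨fun e => h1 p (σ.injective (by rw [hσπ, ← e])) , fun e => hfree p (σ.injective e).symm⟩
    · simp only [Finset.mem_insert, Finset.mem_singleton, not_or]
      exact ⟨(h1 p).symm, (hfree p).symm, (h3 p).symm⟩
  have hOσ : ∀ p, O (σ p) = O p := fun p => by
    ext x
    simp only [hO, Finset.mem_insert, Finset.mem_singleton, hσπ, ← hcm, hππ]
    tauto
  have hOmem : ∀ p q, q ∈ O p → O q = O p := by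
    intro p q hq
    simp only [hO, Finset.mem_insert, Finset.mem_singleton] at hq
    rcases hq with rfl | rfl | rfl | rfl
    · rfl
    · exact hOσ p
    · rw [← hσπ, hOσ, hOσ]
    · rw [hOσ, ← hσπ, hOσ, hOσ]
  have hself : ∀ p, p ∈ O p := fun p => by simp [hO]
  clear_value O
  set Ω := Finset.univ.image O with hΩ
  clear_value Ω
  have hΩ6 : Ω.card = 6 := by
    have hsum := Finset.card_eq_sum_card_fiberwise (s := (Finset.univ : Finset GolayPt)) (t := Ω)
      (f := O) (fun p _ => hΩ ▸ Finset.mem_image_of_mem _ (Finset.mem_univ p))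
    have h24 : (Finset.univ : Finset GolayPt).card = 24 := by
      simp [Fintype.card_option]
    have hfib : ∀ b ∈ Ω, (Finset.univ.filter fun q => O q = b).card = 4 := fun b hb => by
      rw [hΩ] at hb
      obtain ⟨p, -, rfl⟩ := Finset.mem_image.1 hb
      rw [← hO4 p]
      refine congrArg Finset.card (Finset.ext fun q => ?_)
      simp only [Finset.mem_filter, Finset.mem_univ, true_and]
      exact ⟨fun e => e ▸ hself q, hOmem p q⟩
    rw [h24, Finset.sum_congr rfl hfib, Finset.sum_const, smul_eq_mul] at hsum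
    omega
  have hinv : ∀ m ∈ W, ∀ p, p ∈ ptSet m → O p ⊆ ptSet m := by
    intro m hm p hp q hq
    have hs : ∀ r, r ∈ ptSet m → σ r ∈ ptSet m := fun r hr => by
      have := hfix m (hWmem m hm).1 (hWmem m hm).2
      rw [← this]
      exact Finset.smul_mem_smul_finset hr
    simp only [hO, Finset.mem_insert, Finset.mem_singleton] at hq
    rcases hq with rfl | rfl | rfl | rfl
    · exact hp
    · exact hs _ hp
    · rw [← hσπ]; exact hs _ (hs _ hp)
    · rw [← hσπ]; exact hs _ (hs _ (hs _ hp))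
  set f : ℕ → Finset (Finset GolayPt) := fun m => Ω.filter (· ⊆ ptSet m) with hf'
  have hfi : ∀ m ∈ W, ∀ p, p ∈ ptSet m ↔ O p ∈ f m := fun m hm p => by
    simp only [hf', Finset.mem_filter, hΩ, Finset.mem_image, Finset.mem_univ, true_and]
    exact ⟨fun h => ⟨⟨p, rfl⟩, hinv m hm p h⟩, fun h => h.2 (hself p)⟩
  have himg : W.image f = Ω.powerset := by
    refine Finset.eq_of_subset_of_card_le (fun s hs => ?_) ?_
    · obtain ⟨m, -, rfl⟩ := Finset.mem_image.1 hs
      exact Finset.mem_powerset.2 (Finset.filter_subset _ _)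
    · rw [Finset.card_powerset, hΩ6, Finset.card_image_of_injOn]
      · exact hW64
      intro a ha b hb h
      refine ptSet_injOn (codeList_lt (hWmem a ha).1) (codeList_lt (hWmem b hb).1) ?_
      ext p
      rw [hfi a ha, hfi b hb, h]
  have hone : ({O none} : Finset (Finset GolayPt)) ∈ W.image f := by
    rw [himg, Finset.mem_powerset, Finset.singleton_subset_iff, hΩ]
    exact Finset.mem_image_of_mem _ (Finset.mem_univ _)
  obtain ⟨m, hm, hme⟩ := Finset.mem_image.1 hone
  have hset : ptSet m = O none := by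
    ext p
    rw [hfi m hm, hme, Finset.mem_singleton]
    exact ⟨fun e => e ▸ hself p, hOmem none p⟩
  have := card_mem_supports ((ptSet_mem_supports_iff (codeList_lt (hWmem m hm).1)).2 (hWmem m hm).1)
  rw [hset, hO4] at this
  omega

end Cfsg.Agent.H92.CoZero
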