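import Cfsg.Agent.H92.CoZero.Model
import Cfsg.Agent.H61.ZStarInst
import Cfsg.Agent.Cores.PCore
import Cfsg.Prelude.Def_Local

/-!
A standard subgroup isomorphic to Co0 whose centraliser has cyclic Sylow 2-subgroups is normal.
-/

set_option autoImplicit false
set_option maxRecDepth 100000

namespace Cfsg.Agent.H92.CoZero

open Cfsg Cfsg.Agent.Golay Cfsg.Agent.H92.LeechTwo
open Cfsg.Agent.H92.CoOneAut (mkG sylG sylTwo sylZero signG)
open scoped Pointwise symmDiff

attribute [local irreducible] codeList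

variable {G : Type*} [Group G]

/-- The signs. -/
noncomputable def dG (i : Co0 →* G) : Subgroup G := signs.map i

/-- The situation. -/
structure Ctx (A : Subgroup G) (i : Co0 →* G) : Prop where
  inj : Function.Injective i
  range : ∀ g, g ∈ A ↔ ∃ a, i a = g
  cent : ∀ k ∈ Subgroup.centralizer (A : Set G), k * k = 1 → k = 1 ∨ k = i negAll
  cyc : ∀ R : Sylow 2 ↥(Subgroup.centralizer (A : Set G)),
      IsCyclic ↥(R : Subgroup ↥(Subgroup.centralizer (A : Set G)))
  tight : ∀ g : G, g * i negAll = i negAll * g → g ∈ Subgroup.normalizer (A : Set G)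

variable {A : Subgroup G} {i : Co0 →* G}

theorem exists_ctx [Finite G] (hA : Cfsg.IsStandardSubgroup A) (e : A ≃* Co0)
    (hR : ∀ R : Sylow 2 ↥(Subgroup.centralizer (A : Set G)),
      IsCyclic ↥(R : Subgroup ↥(Subgroup.centralizer (A : Set G)))) :
    ∃ i : Co0 →* G, Ctx A i := by
  haveI : Fact (Nat.Prime 2) := ⟨Nat.prime_two⟩
  obtain ⟨-, ⟨-, htight⟩, -, hN⟩ := hA
  set i : Co0 →* G := A.subtype.comp e.symm.toMonoidHom with hi
  have hinj : Function.Injective i := A.subtype_injective.comp e.symm.injective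
  have hrange : ∀ g, g ∈ A ↔ ∃ a, i a = g := fun g =>
    ⟨fun hg => ⟨e ⟨g, hg⟩, by simp [hi]⟩, fun ⟨a, ha⟩ => ha ▸ (e.symm a).2⟩
  set K := Subgroup.centralizer (A : Set G) with hK
  have hcK : i negAll ∈ K := by
    rw [hK, Subgroup.mem_centralizer_iff]
    intro g hg
    obtain ⟨a, rfl⟩ := (hrange g).1 hg
    rw [← map_mul, ← map_mul, Subgroup.mem_center_iff.1 negAll_center a]
  have hc1 : i negAll ≠ 1 := fun h => negAll_ne_one (hinj (h.trans (map_one i).symm))
  have hc2 : i negAll * i negAll = 1 := by rw [← map_mul, negAll_sq, map_one]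
  have hcentK : ∀ k ∈ K, k * i negAll = i negAll * k := fun k hk =>
    (Subgroup.mem_centralizer_iff.1 hk _ ((hrange _).2 ⟨_, rfl⟩)).symm
  refine ⟨i, hinj, hrange, fun k hk hk2 => ?_, hR, fun g hg => ?_⟩
  · by_contra h
    push Not at h
    classical
    set P : Subgroup K := Subgroup.closure {⟨k, hk⟩, ⟨i negAll, hcK⟩} with hP
    have hcm : ∀ a ∈ ({⟨k, hk⟩, ⟨i negAll, hcK⟩} : Set K), ∀ b ∈ ({⟨k, hk⟩, ⟨i negAll, hcK⟩} : Set K),
        a * b = b * a := by
      rintro a (rfl | rfl) b (rfl | rfl) <;>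
        first | rfl | exact Subtype.ext (hcentK k hk) | exact Subtype.ext (hcentK k hk).symm
    have hexp : ∀ x ∈ P, x * x = 1 ∧ ∀ y ∈ P, x * y = y * x := by
      have hab : ∀ x ∈ P, ∀ y ∈ P, x * y = y * x := by
        intro x hx y hy
        have h1 : ∀ a ∈ ({⟨k, hk⟩, ⟨i negAll, hcK⟩} : Set K), ∀ z ∈ P, z * a = a * z := by
          intro a ha z hz
          exact Subgroup.mem_centralizer_singleton_iff.1
            ((Subgroup.closure_le (Subgroup.centralizer ({a} : Set K))).2 (fun b hb =>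
              Subgroup.mem_centralizer_singleton_iff.2 (hcm b hb a ha)) hz)
        exact Subgroup.mem_centralizer_singleton_iff.1
          ((Subgroup.closure_le (Subgroup.centralizer ({y} : Set K))).2 (fun b hb =>
            Subgroup.mem_centralizer_singleton_iff.2 (h1 b hb y hy).symm) hx)
      intro x hx
      refine ⟨?_, hab x hx⟩
      induction hx using Subgroup.closure_induction with
      | mem x hx =>
        rcases hx with rfl | rfl
        · exact Subtype.ext hk2
        · exact Subtype.ext hc2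
      | one => exact one_mul 1
      | mul x y hx hy ihx ihy =>
        rw [show x * y * (x * y) = x * (y * x) * y by group, hab y hy x hx,
          show x * (x * y) * y = (x * x) * (y * y) by group, ihx, ihy, one_mul]
      | inv x _ ih => rw [← mul_inv_rev, ih, inv_one]
    have hp : IsPGroup 2 P := fun x => ⟨1, by
      rw [pow_one, pow_two]; exact Subtype.ext (hexp x.1 x.2).1⟩
    obtain ⟨R, hPR⟩ := hp.exists_le_sylow
    haveI := hR R
    haveI : Fintype (R : Subgroup K) := Fintype.ofFinite _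
    have h3 := IsCyclic.card_pow_eq_one_le (α := (R : Subgroup K)) (n := 2) (by norm_num)
    let p : (R : Subgroup K) := ⟨⟨k, hk⟩, hPR (Subgroup.subset_closure (Or.inl rfl))⟩
    let q : (R : Subgroup K) := ⟨⟨i negAll, hcK⟩, hPR (Subgroup.subset_closure (Or.inr rfl))⟩
    have hsub : ({1, p, q} : Finset (R : Subgroup K)) ⊆
        Finset.univ.filter fun a => a ^ 2 = 1 := by
      intro x hx
      simp only [Finset.mem_insert, Finset.mem_singleton] at hx
      simp only [Finset.mem_filter, Finset.mem_univ, true_and, pow_two]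
      rcases hx with rfl | rfl | rfl
      · exact one_mul 1
      · exact Subtype.ext (Subtype.ext hk2)
      · exact Subtype.ext (Subtype.ext hc2)
    have hcard : ({1, p, q} : Finset (R : Subgroup K)).card = 3 := by
      rw [Finset.card_insert_of_notMem, Finset.card_pair]
      · exact fun e => h.2 (congrArg (fun x : (R : Subgroup K) => x.1.1) e)
      · simp only [Finset.mem_insert, Finset.mem_singleton, not_or]
        exact ⟨fun e => h.1 (congrArg (fun x : (R : Subgroup K) => x.1.1) e).symm,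
          fun e => hc1 (congrArg (fun x : (R : Subgroup K) => x.1.1) e).symm⟩
    have := (Finset.card_le_card hsub).trans h3
    omega
  · by_contra hgn
    rw [hN] at hgn
    have hodd := htight g hgn
    have hmem : i negAll ∈ K ⊓ K.map (MulAut.conj g).toMonoidHom :=
      ⟨hcK, ⟨i negAll, hcK, by show g * i negAll * g⁻¹ = _; rw [hg, mul_inv_cancel_right]⟩⟩
    have h2 : orderOf (⟨i negAll, hmem⟩ : ↥(K ⊓ K.map (MulAut.conj g).toMonoidHom)) = 2 := by
      rw [← Subgroup.orderOf_coe]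
      exact orderOf_eq_prime (by rw [pow_two]; exact hc2) hc1
    have := h2 ▸ orderOf_dvd_natCard (⟨i negAll, hmem⟩ : ↥(K ⊓ K.map (MulAut.conj g).toMonoidHom))
    exact (Nat.not_even_iff_odd.2 hodd) (even_iff_two_dvd.2 this)

namespace Ctx

variable (h : Ctx A i)
include h

local notation "KA" => Subgroup.centralizer (A : Set G)

lemma comm {k : G} (hk : k ∈ KA) (a : Co0) : k * i a = i a * k :=
  (Subgroup.mem_centralizer_iff.1 hk _ ((h.range _).2 ⟨a, rfl⟩)).symm

lemma neg_mem : i negAll ∈ KA := by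
  rw [Subgroup.mem_centralizer_iff]
  intro g hg
  obtain ⟨a, rfl⟩ := (h.range g).1 hg
  rw [← map_mul, ← map_mul, Subgroup.mem_center_iff.1 negAll_center a]

lemma mem_center_of_K {a : Co0} (ha : i a ∈ KA) : a ∈ Subgroup.center Co0 :=
  Subgroup.mem_center_iff.2 fun b => h.inj (by rw [map_mul, map_mul, h.comm ha b])

lemma c_comm {g : G} (hg : g ∈ Subgroup.normalizer (A : Set G)) : g * i negAll = i negAll * g := by
  obtain ⟨b, hb⟩ := (h.range _).1 ((Subgroup.mem_normalizer_iff.1 hg _).1 ((h.range _).2 ⟨negAll, rfl⟩))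
  have hz : b ∈ Subgroup.center Co0 := by
    refine Subgroup.mem_center_iff.2 fun a => h.inj ?_
    obtain ⟨a', ha'⟩ := (h.range _).1 ((Subgroup.mem_normalizer_iff''.1 hg _).1 ((h.range _).2 ⟨a, rfl⟩))
    have ha : i a = g * i a' * g⁻¹ := by rw [ha']; group
    rw [map_mul, map_mul, hb, ha, show g * i a' * g⁻¹ * (g * i negAll * g⁻¹)
      = g * (i a' * i negAll) * g⁻¹ by group, ← map_mul,
      Subgroup.mem_center_iff.1 negAll_center a', map_mul]
    group
  rcases mem_center.1 hz with rfl | rfl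
  · rw [map_one, eq_comm, conj_eq_one_iff] at hb
    exact absurd (h.inj (hb.trans (map_one i).symm)) negAll_ne_one
  · exact (mul_inv_eq_iff_eq_mul.1 hb.symm)

lemma mem_N {g : G} : g ∈ Subgroup.centralizer ({i negAll} : Set G) ↔
    g ∈ Subgroup.normalizer (A : Set G) := by
  rw [Subgroup.mem_centralizer_singleton_iff]
  exact ⟨h.tight g, h.c_comm⟩

lemma split [Finite G] {g : G} (hg : g ∈ Subgroup.normalizer (A : Set G)) :
    ∃ a, ∃ k ∈ KA, g = i a * k := by
  have hex : ∀ x, ∃ y, i y = g * i x * g⁻¹ := fun x =>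
    (h.range _).1 ((Subgroup.mem_normalizer_iff.1 hg _).1 ((h.range _).2 ⟨x, rfl⟩))
  choose f hf using hex
  have hmul : ∀ x y, f (x * y) = f x * f y := fun x y => h.inj (by
    rw [map_mul, hf, hf, hf, map_mul]; group)
  have hbij : Function.Bijective f := by
    haveI : Finite Co0 := finite_co0
    refine Finite.injective_iff_bijective.1 fun x y e => h.inj ?_
    have := congrArg i e
    rw [hf, hf] at this
    exact mul_left_cancel (mul_right_cancel this)
  obtain ⟨a, ha⟩ := co0_aut (MulEquiv.ofBijective (MonoidHom.mk' f hmul) hbij)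
  refine ⟨a, (i a)⁻¹ * g, ?_, (mul_inv_cancel_left _ _).symm⟩
  rw [Subgroup.mem_centralizer_iff]
  intro x hx
  obtain ⟨b, rfl⟩ := (h.range _).1 hx
  have e : f b = a * b * a⁻¹ := ha b
  have e2 := hf b
  rw [e, map_mul, map_mul, map_inv] at e2
  calc i b * ((i a)⁻¹ * g) = (i a)⁻¹ * (i a * i b * (i a)⁻¹) * g := by group
    _ = (i a)⁻¹ * g * i b := by rw [e2]; group

lemma prod_mem_N {a : Co0} {k : G} (hk : k ∈ KA) : i a * k ∈ Subgroup.centralizer ({i negAll} : Set G) := by
  rw [Subgroup.mem_centralizer_singleton_iff, mul_assoc, h.comm hk, ← mul_assoc, ← map_mul,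
    Subgroup.mem_center_iff.1 negAll_center a, map_mul, mul_assoc]

lemma prod_unique {a b : Co0} {k l : G} (hk : k ∈ KA) (hl : l ∈ KA) (e : i a * k = i b * l) :
    b⁻¹ * a ∈ Subgroup.center Co0 := by
  refine h.mem_center_of_K ?_
  rw [map_mul, map_inv, show (i b)⁻¹ * i a = l * k⁻¹ by
    rw [inv_mul_eq_iff_eq_mul, ← mul_assoc, ← e, mul_inv_cancel_right]]
  exact mul_mem hl (inv_mem hk)

/-- The product map. -/
def mu : Co0 × KA →* G := MonoidHom.mk' (fun p => i p.1 * p.2.1) fun p q => by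
  show i (p.1 * q.1) * (p.2.1 * q.2.1) = i p.1 * p.2.1 * (i q.1 * q.2.1)
  rw [map_mul]
  calc i p.1 * i q.1 * (p.2.1 * q.2.1) = i p.1 * (i q.1 * p.2.1) * q.2.1 := by group
    _ = i p.1 * p.2.1 * (i q.1 * q.2.1) := by rw [← h.comm p.2.2]; group

lemma mu_apply (a : Co0) (k : KA) : h.mu (a, k) = i a * k.1 := rfl

variable [Finite G]

/-- The two-group attached to a Sylow subgroup of the centraliser. -/
noncomputable def sylS (T : Sylow 2 KA) : Subgroup G := (sylZero.prod (T : Subgroup KA)).map h.mu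

lemma mem_sylS {T : Sylow 2 KA} {x : G} :
    x ∈ h.sylS T ↔ ∃ a ∈ sylZero, ∃ k : KA, k ∈ (T : Subgroup KA) ∧ x = i a * k.1 := by
  constructor
  · rintro ⟨⟨a, k⟩, ⟨ha, hk⟩, rfl⟩
    exact ⟨a, ha, k, hk, rfl⟩
  · rintro ⟨a, ha, k, hk, rfl⟩
    exact ⟨(a, k), ⟨ha, hk⟩, rfl⟩

lemma isPGroup_sylZero : IsPGroup 2 sylZero := by
  haveI : Fact (Nat.Prime 2) := ⟨Nat.prime_two⟩
  refine IsPGroup.of_card (n := 22) ?_
  have := CoOneAut.card_map_mk (center_le_crossStab.trans CoOneAut.signs_le_sylZero)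
  rw [show sylZero.map mkG = sylG from rfl, CoOneAut.card_sylG] at this
  omega

lemma isPGroup_sylS (T : Sylow 2 KA) : IsPGroup 2 (h.sylS T) := by
  haveI : Fact (Nat.Prime 2) := ⟨Nat.prime_two⟩
  haveI : Finite Co0 := finite_co0
  refine IsPGroup.map ?_ _
  obtain ⟨n, hn⟩ := IsPGroup.iff_card.1 h.isPGroup_sylZero
  obtain ⟨m, hm⟩ := IsPGroup.iff_card.1 T.isPGroup'
  refine IsPGroup.of_card (n := n + m) ?_
  rw [Nat.card_congr (Subgroup.prodEquiv _ _).toEquiv, Nat.card_prod, hn, hm, pow_add]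

/-- Two-subgroups of the centraliser of the central involution move into the standard one. -/
theorem into_sylS (T : Sylow 2 KA) (R : Subgroup G) (hR : IsPGroup 2 R)
    (hle : R ≤ Subgroup.centralizer ({i negAll} : Set G)) :
    ∃ n ∈ Subgroup.centralizer ({i negAll} : Set G), ∀ x ∈ R, n * x * n⁻¹ ∈ h.sylS T := by
  haveI : Fact (Nat.Prime 2) := ⟨Nat.prime_two⟩
  haveI : Finite Co0 := finite_co0
  have hsp : ∀ x : R, ∃ a, ∃ k ∈ KA, x.1 = i a * k := fun x => h.split (h.mem_N.1 (hle x.2))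
  choose pa pk hpk hx using hsp
  let pr : R →* Spor.Co1 := MonoidHom.mk' (fun x => mkG (pa x)) fun x y => by
    rw [← map_mul]
    refine ((QuotientGroup.eq).2 (h.prod_unique (hpk (x * y)) (mul_mem (hpk x) (hpk y)) ?_)).symm
    rw [← hx, Subgroup.coe_mul, hx x, hx y, map_mul, mul_assoc, ← mul_assoc (pk x), h.comm (hpk x)]
    group
  have hp : IsPGroup 2 pr.range := hR.of_surjective pr.rangeRestrict pr.rangeRestrict_surjective
  obtain ⟨S1, hS1⟩ := hp.exists_le_sylow
  haveI := CoOneAut.finite_co1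
  obtain ⟨w, hw⟩ := MulAction.exists_smul_eq Spor.Co1 S1 sylTwo
  obtain ⟨a, rfl⟩ := QuotientGroup.mk'_surjective _ w
  set R1 : Subgroup G := R.map (MulAut.conj (i a)).toMonoidHom with hR1
  have hform : ∀ x ∈ R1, ∃ b ∈ sylZero, ∃ k : KA, x = i b * k.1 := by
    rintro _ ⟨x, hxR, rfl⟩
    have hm : mkG (pa ⟨x, hxR⟩) ∈ (S1 : Subgroup Spor.Co1) := hS1 ⟨⟨x, hxR⟩, rfl⟩
    have hm' := Subgroup.smul_mem_pointwise_smul _ (MulAut.conj (mkG a)) _ hm
    have hm2 : mkG a * mkG (pa ⟨x, hxR⟩) * (mkG a)⁻¹ ∈ sylG := by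
      rw [← CoOneAut.coe_sylTwo, ← hw]; exact hm'
    rw [← map_inv, ← map_mul, ← map_mul, sylG, ← Subgroup.mem_comap, Subgroup.comap_map_eq,
      QuotientGroup.ker_mk', sup_eq_left.2 (center_le_crossStab.trans CoOneAut.signs_le_sylZero)]
      at hm2
    refine ⟨_, hm2, ⟨pk ⟨x, hxR⟩, hpk _⟩, ?_⟩
    show i a * x * (i a)⁻¹ = _
    rw [show i a * x * (i a)⁻¹ = i a * (i (pa ⟨x, hxR⟩) * pk ⟨x, hxR⟩) * (i a)⁻¹ from
      congrArg (fun y => i a * y * (i a)⁻¹) (hx ⟨x, hxR⟩), map_mul, map_mul, map_inv]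
    calc i a * (i (pa ⟨x, hxR⟩) * pk ⟨x, hxR⟩) * (i a)⁻¹
        = i a * i (pa ⟨x, hxR⟩) * (pk ⟨x, hxR⟩ * i a⁻¹) := by rw [map_inv]; group
      _ = _ := by rw [h.comm (hpk _), map_inv]; group
  set L := sylZero.map i with hL
  have hnorm : R1 ≤ Subgroup.normalizer (L : Set G) := by
    intro x hx'
    obtain ⟨b, hb, k, rfl⟩ := hform x hx'
    have hk1 : k.1 ∈ Subgroup.normalizer (L : Set G) := by
      rw [Subgroup.mem_normalizer_iff]
      intro y
      constructor
      · rintro ⟨z, hz, rfl⟩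
        exact ⟨z, hz, by rw [h.comm k.2, mul_inv_cancel_right]⟩
      · rintro ⟨z, hz, e⟩
        refine ⟨z, hz, ?_⟩
        calc i z = k.1⁻¹ * (k.1 * i z) := by group
          _ = k.1⁻¹ * ((k.1 * y * k.1⁻¹) * k.1) := by rw [h.comm k.2, e]
          _ = y := by group
    exact mul_mem (Subgroup.le_normalizer ⟨b, hb, rfl⟩) hk1
  have hR2 : IsPGroup 2 (R1 ⊔ L : Subgroup G) :=
    (hR.map _).to_sup_of_normal_right' (h.isPGroup_sylZero.map i) hnorm
  obtain ⟨T1, hT1⟩ := (hR2.comap_subtype (K := KA)).exists_le_sylow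
  obtain ⟨k0, hk0⟩ := MulAction.exists_smul_eq KA T1 T
  refine ⟨k0.1 * i a, mul_mem ?_ ?_, fun x hxR => ?_⟩
  · simpa using h.prod_mem_N (a := 1) k0.2
  · simpa using h.prod_mem_N (a := a) (one_mem KA)
  obtain ⟨b, hb, k, hk⟩ := hform _ ⟨x, hxR, rfl⟩
  have hkm : k ∈ (T1 : Subgroup KA) := hT1 (by
    show k.1 ∈ R1 ⊔ L
    rw [show k.1 = (i b)⁻¹ * (i b * k.1) by group, ← hk]
    exact mul_mem (inv_mem (Subgroup.mem_sup_right ⟨b, hb, rfl⟩))
      (Subgroup.mem_sup_left ⟨x, hxR, rfl⟩))
  have := Subgroup.smul_mem_pointwise_smul _ (MulAut.conj k0) _ hkm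
  refine h.mem_sylS.2 ⟨b, hb, MulAut.conj k0 • k, by rw [← hk0]; exact this, ?_⟩
  show k0.1 * i a * x * (k0.1 * i a)⁻¹ = i b * (k0.1 * k.1 * k0.1⁻¹)
  rw [show k0.1 * i a * x * (k0.1 * i a)⁻¹ = k0.1 * (MulAut.conj (i a) x) * k0.1⁻¹ by
    rw [MulAut.conj_apply]; group,
    show MulAut.conj (i a) x = i b * k.1 from hk, ← mul_assoc k0.1, h.comm k0.2]
  group


lemma mem_dG {x : G} : x ∈ (dG i) ↔ ∃ c, x = i (signAut c) := by
  constructor
  · rintro ⟨a, ha, rfl⟩
    obtain ⟨c, rfl⟩ := mem_signs.1 ha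
    exact ⟨c, rfl⟩
  · rintro ⟨c, rfl⟩
    exact ⟨_, mem_signs.2 ⟨c, rfl⟩, rfl⟩

/-- The signs are alone in the standard two-group. -/
theorem signsUnique (T : Sylow 2 KA) (E : Subgroup G) (hE : E ≤ h.sylS T)
    (hc : ∀ a ∈ E, ∀ b ∈ E, a * b = b * a) (hsq : ∀ a ∈ E, a * a = 1)
    (hcard : Nat.card E = 4096) : E = (dG i) := by
  haveI : Finite Co0 := finite_co0
  have hsp : ∀ x : E, ∃ a ∈ sylZero, ∃ k : KA, k ∈ (T : Subgroup KA) ∧ x.1 = i a * k.1 :=
    fun x => h.mem_sylS.1 (hE x.2)
  choose pa hpa pk hpk hx using hsp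
  let pr : E →* Spor.Co1 := MonoidHom.mk' (fun x => mkG (pa x)) fun x y => by
    rw [← map_mul]
    refine ((QuotientGroup.eq).2 (h.prod_unique (pk (x * y)).2 (mul_mem (pk x).2 (pk y).2) ?_)).symm
    rw [← hx, Subgroup.coe_mul, hx x, hx y, map_mul, mul_assoc, ← mul_assoc (pk x).1,
      h.comm (pk x).2]
    group
  have hker : ∀ x : E, mkG (pa x) = 1 → x.1 = 1 ∨ x.1 = i negAll := by
    intro x hx1
    refine h.cent _ ?_ (hsq _ x.2)
    rw [hx x]
    refine mul_mem ?_ (pk x).2
    rcases mkG_eq_one.1 hx1 with e | e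
    · rw [e, map_one]; exact one_mem _
    · rw [e]; exact h.neg_mem
  have hk2 : Nat.card pr.ker ≤ 2 := by
    classical
    rw [← Fintype.card_bool, ← Nat.card_eq_fintype_card]
    refine Nat.card_le_card_of_injective (fun x => decide (x.1.1 = (1 : G))) fun x y e => ?_
    refine Subtype.ext (Subtype.ext ?_)
    rcases hker x.1 x.2 with a | a <;> rcases hker y.1 y.2 with b | b
    · rw [a, b]
    · have e' : decide (x.1.1 = (1 : G)) = decide (y.1.1 = (1 : G)) := e
      rw [a, b, decide_eq_true (rfl : (1 : G) = 1)] at e'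
      rw [a, b]; exact (of_decide_eq_true e'.symm).symm
    · have e' : decide (x.1.1 = (1 : G)) = decide (y.1.1 = (1 : G)) := e
      rw [a, b, decide_eq_true (rfl : (1 : G) = 1)] at e'
      rw [a, b]; exact of_decide_eq_true e'
    · rw [a, b]
  have hrge : pr.range ≤ sylG := by
    rintro _ ⟨x, rfl⟩
    exact ⟨_, hpa x, rfl⟩
  have himg : pr.range = signG := by
    refine signG_unique hrge ?_ ?_ ?_
    · rintro _ ⟨x, rfl⟩ _ ⟨y, rfl⟩
      rw [← map_mul, ← map_mul, show x * y = y * x from Subtype.ext (hc _ x.2 _ y.2)]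
    · rintro _ ⟨x, rfl⟩
      rw [← map_mul, show x * x = 1 from Subtype.ext (hsq _ x.2), map_one]
    · have := pr.ker.card_mul_index
      rw [Subgroup.index_ker, hcard] at this
      nlinarith
  have hle : E ≤ (dG i) := by
    intro x hxE
    set y : E := ⟨x, hxE⟩
    have hs : pa y ∈ signs := CoOneAut.mk_mem_signG.1 (himg ▸ (⟨y, rfl⟩ : pr y ∈ pr.range))
    have hsd : i (pa y) ∈ (dG i) := ⟨_, hs, rfl⟩
    have hk : (pk y).1 * (pk y).1 = 1 := by
      have := hsq _ y.2
      rw [hx y, show i (pa y) * (pk y).1 * (i (pa y) * (pk y).1)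
        = i (pa y) * ((pk y).1 * i (pa y)) * (pk y).1 by group, h.comm (pk y).2, ← mul_assoc,
        ← map_mul, signs_sq hs, map_one, one_mul] at this
      exact this
    rw [show x = i (pa y) * (pk y).1 from hx y]
    refine mul_mem hsd ?_
    rcases h.cent _ (pk y).2 hk with e | e <;> rw [e]
    · exact one_mem _
    · exact ⟨negAll, center_le_crossStab negAll_center, rfl⟩
  refine Subgroup.eq_of_le_of_card_ge hle ?_
  rw [hcard, dG, Subgroup.card_map_of_injective h.inj, card_signs]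

/-- Fusion of a sign to the central involution happens in the normaliser of the signs. -/
theorem sign_fusion {x g : G} (hx : x ∈ (dG i)) (hg : g * x * g⁻¹ = i negAll) :
    ∃ n ∈ Subgroup.normalizer ((dG i) : Set G), n * x * n⁻¹ = i negAll := by
  haveI : Fact (Nat.Prime 2) := ⟨Nat.prime_two⟩
  haveI : Finite Co0 := finite_co0
  have hD2 : IsPGroup 2 (dG i) :=
    (IsPGroup.of_card (card_signs.trans (by norm_num : (4096 : ℕ) = 2 ^ 12))).map i
  have hDc : ∀ a ∈ (dG i), ∀ b ∈ (dG i), a * b = b * a := by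
    rintro _ ⟨a, ha, rfl⟩ _ ⟨b, hb, rfl⟩
    rw [← map_mul, ← map_mul, signs_comm ha hb]
  have hDs : ∀ a ∈ (dG i), a * a = 1 := by
    rintro _ ⟨a, ha, rfl⟩
    rw [← map_mul, signs_sq ha, map_one]
  have hDn : Nat.card (dG i) = 4096 := by
    rw [dG, Subgroup.card_map_of_injective h.inj, card_signs]
  refine fusion_normalizer (dG i) hD2 hDc hx ⟨negAll, center_le_crossStab negAll_center, rfl⟩ hg
    fun R hR hRC hDR k hkR => ?_
  obtain ⟨T⟩ : Nonempty (Sylow 2 KA) := inferInstance
  obtain ⟨n, -, hn⟩ := h.into_sylS T R hR hRC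
  have key : ∀ E : Subgroup G, E ≤ R → (∀ a ∈ E, ∀ b ∈ E, a * b = b * a) → (∀ a ∈ E, a * a = 1) →
      Nat.card E = 4096 → E.map (MulAut.conj n).toMonoidHom = (dG i) := by
    intro E hE hc hs hcd
    refine h.signsUnique T _ ?_ ?_ ?_ ?_
    · rintro _ ⟨a, ha, rfl⟩
      exact hn a (hE ha)
    · rintro _ ⟨a, ha, rfl⟩ _ ⟨b, hb, rfl⟩
      rw [← map_mul, ← map_mul, hc a ha b hb]
    · rintro _ ⟨a, ha, rfl⟩
      rw [← map_mul, hs a ha, map_one]
    · rw [Subgroup.card_map_of_injective (MulAut.conj n).injective, hcd]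
  refine Subgroup.map_injective (MulAut.conj n).injective
    ((key _ hkR ?_ ?_ ?_).trans (key _ hDR hDc hDs hDn).symm)
  · rintro _ ⟨a, ha, rfl⟩ _ ⟨b, hb, rfl⟩
    rw [← map_mul, ← map_mul, hDc a ha b hb]
  · rintro _ ⟨a, ha, rfl⟩
    rw [← map_mul, hDs a ha, map_one]
  · rw [Subgroup.card_map_of_injective (MulAut.conj k).injective, hDn]

/-- No conjugate of the central involution is a different sign. -/
theorem no_sign {x g : G} (hx : x ∈ (dG i)) (hg : g * x * g⁻¹ = i negAll) : x = i negAll := by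
  haveI : Finite Co0 := finite_co0
  obtain ⟨n, hn, hnx⟩ := h.sign_fusion hx hg
  let P : Equiv.Perm SignSet → Prop := fun π =>
    ∃ m ∈ Subgroup.normalizer ((dG i) : Set G), ∀ c, i (signAut (π c)) = m * i (signAut c) * m⁻¹
  let H : Subgroup (Equiv.Perm SignSet) :=
    { carrier := {π | P π}
      one_mem' := ⟨1, one_mem _, fun c => by simp⟩
      mul_mem' := by
        rintro π ρ ⟨m, hm, e⟩ ⟨l, hl, e'⟩
        exact ⟨m * l, mul_mem hm hl, fun c => by rw [Equiv.Perm.mul_apply, e, e']; group⟩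
      inv_mem' := by
        rintro π ⟨m, hm, e⟩
        refine ⟨m⁻¹, inv_mem hm, fun c => ?_⟩
        have := e (π⁻¹ c)
        rw [Equiv.Perm.coe_inv, Equiv.apply_symm_apply] at this
        rw [Equiv.Perm.coe_inv, this]
        group }
  have hinj : Function.Injective fun c => i (signAut c) := h.inj.comp signAut_inj
  have hfix := fixes_full H
    (fun π hπ a b => by
      obtain ⟨m, -, e⟩ := hπ
      apply hinj
      show i (signAut _) = i (signAut _)
      rw [← signAut_add, map_mul, e, e, e, ← signAut_add, map_mul]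
      group)
    (fun σ => by
      refine ⟨i (permAut σ), ?_, fun c => ?_⟩
      · rw [Subgroup.mem_normalizer_iff]
        intro y
        constructor
        · intro hy
          obtain ⟨c, rfl⟩ := h.mem_dG.1 hy
          refine h.mem_dG.2 ⟨⟨σ.1 • c.1, smul_mem_supports σ.2 c.2⟩, ?_⟩
          rw [← Golay.conj_signAut, map_mul, map_mul, map_inv]
        · intro hy
          obtain ⟨c, hc⟩ := h.mem_dG.1 hy
          refine h.mem_dG.2 ⟨⟨(σ⁻¹).1 • c.1, smul_mem_supports (σ⁻¹).2 c.2⟩, ?_⟩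
          rw [← Golay.conj_signAut, map_mul, map_mul, map_inv, ← hc,
            show permAut σ⁻¹ = (permAut σ)⁻¹ from map_inv LeechTwo.permHom σ, map_inv]
          group
      · rw [← map_inv, ← map_mul, ← map_mul, Golay.conj_signAut]
        rfl)
    (fun π hπ hfull => by
      obtain ⟨m, hm, e⟩ := hπ
      have hmc : m * i negAll = i negAll * m := by
        have := e fullS
        rw [hfull, ← negAll_eq] at this
        exact mul_inv_eq_iff_eq_mul.1 this.symm
      obtain ⟨a, k, hk, rfl⟩ := h.split (h.tight m hmc)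
      have hact : ∀ c, a * signAut c * a⁻¹ = signAut (π c) := fun c => h.inj (by
        rw [e, map_mul, map_mul, map_inv,
          show i a * k * i (signAut c) * (i a * k)⁻¹ = i a * (k * i (signAut c) * k⁻¹) * (i a)⁻¹ by
            group, h.comm hk, mul_inv_cancel_right])
      have han : a ∈ Subgroup.normalizer (signs : Set Co0) := by
        rw [Subgroup.mem_normalizer_iff]
        intro y
        constructor
        · intro hy
          obtain ⟨c, rfl⟩ := mem_signs.1 hy
          exact mem_signs.2 ⟨_, hact c⟩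
        · intro hy
          obtain ⟨c, hc⟩ := mem_signs.1 hy
          refine mem_signs.2 ⟨π⁻¹ c, ?_⟩
          have := hact (π⁻¹ c)
          rw [Equiv.Perm.coe_inv, Equiv.apply_symm_apply, ← hc] at this
          exact mul_left_cancel (mul_right_cancel this.symm)
      obtain ⟨d, σ, -, hσ, -⟩ := exists_form (mem_crossStab_of_normalizes han)
      refine ⟨σ, Equiv.ext fun c => signAut_inj ?_⟩
      rw [← hact, hσ]
      rfl)
  -- the permutation induced by the fusing element
  have hex : ∀ c, ∃ d, i (signAut d) = n * i (signAut c) * n⁻¹ := fun c => by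
    obtain ⟨d, hd⟩ := h.mem_dG.1 ((Subgroup.mem_normalizer_iff.1 hn _).1 (h.mem_dG.2 ⟨c, rfl⟩))
    exact ⟨d, hd.symm⟩
  choose f hf using hex
  have hfi : Function.Injective f := fun a b e => hinj (by
    have := congrArg (fun d => i (signAut d)) e
    simp only [hf] at this
    exact mul_left_cancel (mul_right_cancel this))
  set π := Equiv.ofBijective f (Finite.injective_iff_bijective.1 hfi)
  have hπ : π ∈ H := ⟨n, hn, fun c => hf c⟩
  obtain ⟨d, rfl⟩ := h.mem_dG.1 hx
  have hd : π d = fullS := hinj (by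
    show i (signAut (f d)) = i (signAut fullS)
    rw [hf, hnx, negAll_eq])
  rw [π.injective (hd.trans (hfix π hπ).symm), negAll_eq]

/-- No other conjugate of the central involution commutes with it. -/
theorem isolated {u g : G} (hcu : i negAll * u = u * i negAll) (hu : g * i negAll * g⁻¹ = u) :
    u = i negAll := by
  haveI : Fact (Nat.Prime 2) := ⟨Nat.prime_two⟩
  haveI : Finite Co0 := finite_co0
  by_contra hne
  set c := i negAll with hcdef
  have hc2 : c * c = 1 := by rw [hcdef, ← map_mul, negAll_sq, map_one]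
  have hu2 : u * u = 1 := by
    rw [← hu, show g * c * g⁻¹ * (g * c * g⁻¹) = g * (c * c) * g⁻¹ by group, hc2, mul_one,
      mul_inv_cancel]
  have huN : u ∈ Subgroup.normalizer (A : Set G) := h.tight u hcu.symm
  by_cases huA : u ∈ A
  · obtain ⟨b, rfl⟩ := (h.range _).1 huA
    have hb : b * b = 1 := h.inj (by rw [map_mul, hu2, map_one])
    have hbc : b ∉ Subgroup.center Co0 := fun hz => by
      rcases mem_center.1 hz with rfl | rfl
      · rw [map_one, conj_eq_one_iff] at hu
        exact negAll_ne_one (h.inj (hu.trans (map_one i).symm))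
      · exact hne rfl
    obtain ⟨a, ha⟩ := invol_conj hb hbc
    have := h.no_sign (x := i (a * b * a⁻¹)) (g := g⁻¹ * (i a)⁻¹) ⟨_, ha, rfl⟩ (by
      rw [map_mul, map_mul, map_inv, ← hu]; group; rfl)
    rw [hcdef] at hne
    refine hne (congrArg i ?_)
    have := h.inj this
    rw [← mul_left_inj a⁻¹, ← mul_right_inj a, ← mul_assoc, this, ← mul_assoc,
      Subgroup.mem_center_iff.1 negAll_center a, mul_inv_cancel_right]
  · obtain ⟨T⟩ : Nonempty (Sylow 2 KA) := inferInstance
    set M := Subgroup.centralizer ({c} : Set G) ⊓ Subgroup.centralizer ({u} : Set G) with hM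
    have hcM : c ∈ M := ⟨Subgroup.mem_centralizer_singleton_iff.2 rfl,
      Subgroup.mem_centralizer_singleton_iff.2 hcu⟩
    have huM : u ∈ M := ⟨Subgroup.mem_centralizer_singleton_iff.2 hcu.symm,
      Subgroup.mem_centralizer_singleton_iff.2 rfl⟩
    obtain ⟨P⟩ : Nonempty (Sylow 2 M) := inferInstance
    set P0 := (P : Subgroup M).map M.subtype with hP0
    have hP0p : IsPGroup 2 P0 := P.isPGroup'.map _
    -- central elements of order two lie in every Sylow subgroup
    have habs : ∀ x : M, IsPGroup 2 (Subgroup.zpowers x) →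
        (∀ y ∈ (P : Subgroup M), x * y = y * x) → x ∈ (P : Subgroup M) := by
      intro x hx hxy
      have hn : Subgroup.zpowers x ≤ Subgroup.normalizer ((P : Subgroup M) : Set M) := by
        rw [Subgroup.zpowers_le, Subgroup.mem_normalizer_iff]
        intro y
        constructor
        · intro hy; rw [hxy y hy, mul_inv_cancel_right]; exact hy
        · intro hy
          have := hxy _ hy
          have e : y = x * y * x⁻¹ := by
            have h2 : x * (x * y * x⁻¹) = x * y := by rw [this]; group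
            exact mul_left_cancel h2.symm
          rw [e]; exact hy
      have hs := hx.to_sup_of_normal_right' P.isPGroup' hn
      rw [← P.is_maximal' hs le_sup_right]
      exact Subgroup.mem_sup_left (Subgroup.mem_zpowers x)
    have hinv : ∀ x : M, x * x = 1 → IsPGroup 2 (Subgroup.zpowers x) := fun x hx => by
      by_cases h1 : x = 1
      · exact IsPGroup.of_card (n := 0) (by rw [Nat.card_zpowers, h1, orderOf_one, pow_zero])
      · exact IsPGroup.of_card (n := 1) (by
          rw [Nat.card_zpowers, pow_one]; exact orderOf_eq_prime (by rw [pow_two, hx]) h1)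
    have hcP : c ∈ P0 := ⟨⟨c, hcM⟩, habs _ (hinv _ (Subtype.ext hc2)) (fun y _ => Subtype.ext
      (Subgroup.mem_centralizer_singleton_iff.1 y.2.1).symm), rfl⟩
    have huP : u ∈ P0 := ⟨⟨u, huM⟩, habs _ (hinv _ (Subtype.ext hu2)) (fun y _ => Subtype.ext
      (Subgroup.mem_centralizer_singleton_iff.1 y.2.2).symm), rfl⟩
    obtain ⟨n, hn, hnP⟩ := h.into_sylS T P0 hP0p ((Subgroup.map_subtype_le _).trans inf_le_left)
    have hnc : n * c * n⁻¹ = c := by
      rw [Subgroup.mem_centralizer_singleton_iff.1 hn, mul_inv_cancel_right]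
    obtain ⟨a, ha, k, hk, hak⟩ := h.mem_sylS.1 (hnP u huP)
    have hkA : k.1 ∉ A := fun hkA => huA (by
      have : n * u * n⁻¹ ∈ A := by rw [hak]; exact mul_mem ((h.range _).2 ⟨a, rfl⟩) hkA
      exact (Subgroup.mem_normalizer_iff.1 (h.mem_N.1 hn) u).2 this)
    have hkk : i (a * a) * (k.1 * k.1) = 1 := by
      have : n * u * n⁻¹ * (n * u * n⁻¹) = 1 := by
        rw [show n * u * n⁻¹ * (n * u * n⁻¹) = n * (u * u) * n⁻¹ by group, hu2, mul_one,
          mul_inv_cancel]
      rw [hak] at this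
      rw [← this, map_mul, show i a * k.1 * (i a * k.1) = i a * (k.1 * i a) * k.1 by group,
        h.comm k.2]
      group
    have hcent : a * a ∈ Subgroup.center Co0 := h.mem_center_of_K (by
      rw [mul_eq_one_iff_eq_inv.1 hkk]; exact inv_mem (mul_mem k.2 k.2))
    have haa : a * a = negAll := (mem_center.1 hcent).resolve_left fun e => by
      rw [e, map_one, one_mul] at hkk
      rcases h.cent _ k.2 hkk with e | e <;> rw [e] at hkA
      · exact hkA (one_mem A)
      · exact hkA ((h.range _).2 ⟨negAll, rfl⟩)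
    have hk4 : k.1 * k.1 = c := by
      rw [haa] at hkk
      rw [eq_inv_of_mul_eq_one_right hkk, hcdef, inv_eq_iff_mul_eq_one]
      exact hc2
    -- a root of the conjugate, central over the Sylow subgroup
    set v := n * u * n⁻¹ with hv
    have hgv : n * g * c * (n * g)⁻¹ = v := by rw [hv, ← hu]; group
    set P1 := P0.map (MulAut.conj n).toMonoidHom with hP1
    have hP1S : ∀ x ∈ P1, x ∈ h.sylS T := by rintro _ ⟨y, hy, rfl⟩; exact hnP y hy
    have hP1v : ∀ x ∈ P1, x * v = v * x := by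
      rintro _ ⟨_, ⟨y, hy, rfl⟩, rfl⟩
      show MulAut.conj n y.1 * MulAut.conj n u = MulAut.conj n u * MulAut.conj n y.1
      rw [← map_mul, ← map_mul, Subgroup.mem_centralizer_singleton_iff.1 y.2.2]
    set R := P1.map (MulAut.conj (n * g)⁻¹).toMonoidHom with hRdef
    obtain ⟨m, hm, hmR⟩ := h.into_sylS T R ((hP0p.map _).map _) (by
      rintro _ ⟨x, hx, rfl⟩
      rw [Subgroup.mem_centralizer_singleton_iff]
      have := congrArg (MulAut.conj (n * g)⁻¹) (hP1v x hx)
      have hvc : MulAut.conj (n * g)⁻¹ v = c := by rw [MulAut.conj_apply, ← hgv]; group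
      exact (((map_mul (MulAut.conj (n * g)⁻¹) x v).trans (congrArg _ hvc)).symm.trans this).trans
        ((map_mul (MulAut.conj (n * g)⁻¹) v x).trans (congrArg (· * _) hvc)))
    obtain ⟨j, hj⟩ := (h.cyc T).exists_generator
    have hTc : ∀ x ∈ (T : Subgroup KA), ∀ y ∈ (T : Subgroup KA), x * y = y * x := fun x hx y hy => by
      obtain ⟨p, hp⟩ := Subgroup.mem_zpowers_iff.1 (hj ⟨x, hx⟩)
      obtain ⟨q, hq⟩ := Subgroup.mem_zpowers_iff.1 (hj ⟨y, hy⟩)
      rw [show x = ((j ^ p : (T : Subgroup KA)) : KA) from (congrArg Subtype.val hp).symm,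
        show y = ((j ^ q : (T : Subgroup KA)) : KA) from (congrArg Subtype.val hq).symm,
        ← Subgroup.coe_mul, ← Subgroup.coe_mul, (Commute.zpow_zpow (Commute.refl j) p q).eq]
    have hkS : ∀ x ∈ h.sylS T, k.1 * x = x * k.1 := by
      intro x hx
      obtain ⟨b, -, l, hl, rfl⟩ := h.mem_sylS.1 hx
      rw [← mul_assoc, h.comm k.2, mul_assoc, mul_assoc]
      exact congrArg (i b * ·) (congrArg Subtype.val (hTc k hk l hl))
    set q := n * g * m⁻¹ with hq
    set r := q * k.1 * q⁻¹ with hr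
    have hmc : m⁻¹ * c * m = c := by
      rw [mul_assoc, ← Subgroup.mem_centralizer_singleton_iff.1 hm, inv_mul_cancel_left]
    have hr2 : r * r = v := by
      rw [hr, show q * k.1 * q⁻¹ * (q * k.1 * q⁻¹) = q * (k.1 * k.1) * q⁻¹ by group, hk4, hq,
        show n * g * m⁻¹ * c * (n * g * m⁻¹)⁻¹ = n * g * (m⁻¹ * c * m) * (n * g)⁻¹ by group, hmc,
        hgv]
    have hrP1 : ∀ x ∈ P1, r * x = x * r := by
      intro x hx
      have hk' := hkS _ (hmR _ ⟨x, hx, rfl⟩)
      have e : MulAut.conj q (m * (MulAut.conj (n * g)⁻¹).toMonoidHom x * m⁻¹) = x := by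
        show q * (m * ((n * g)⁻¹ * x * ((n * g)⁻¹)⁻¹) * m⁻¹) * q⁻¹ = x
        rw [hq]; group
      have := (map_mul (MulAut.conj q) k.1 _).symm.trans
        ((congrArg (MulAut.conj q) hk').trans (map_mul (MulAut.conj q) _ k.1))
      rw [e] at this
      exact this
    -- pull back to the Sylow subgroup
    set r' := n⁻¹ * r * n with hr'
    have hr'u : r' * r' = u := by
      rw [hr', show n⁻¹ * r * n * (n⁻¹ * r * n) = n⁻¹ * (r * r) * n by group, hr2, hv]; group
    have hr'P : ∀ y ∈ P0, r' * y = y * r' := by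
      intro y hy
      have := hrP1 _ ⟨y, hy, rfl⟩
      change r * (n * y * n⁻¹) = n * y * n⁻¹ * r at this
      rw [hr', show n⁻¹ * r * n * y = n⁻¹ * (r * (n * y * n⁻¹)) * n by group, this]
      group
    have hr'M : r' ∈ M := ⟨Subgroup.mem_centralizer_singleton_iff.2 (hr'P c hcP),
      Subgroup.mem_centralizer_singleton_iff.2 (hr'P u huP)⟩
    have hr'mem : (⟨r', hr'M⟩ : M) ∈ (P : Subgroup M) := by
      refine habs _ ?_ fun y hy => Subtype.ext (hr'P y.1 ⟨y, hy, rfl⟩)
      have h4 : (⟨r', hr'M⟩ : M) ^ (2 ^ 2) = 1 := Subtype.ext (by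
        show r' ^ (2 ^ 2) = 1
        rw [show (2 : ℕ) ^ 2 = 2 * 2 from rfl, pow_mul, pow_two r', hr'u, pow_two, hu2])
      obtain ⟨e, -, he⟩ := (Nat.dvd_prime_pow Nat.prime_two).1 (orderOf_dvd_of_pow_eq_one h4)
      exact IsPGroup.of_card (n := e) (by rw [Nat.card_zpowers, he])
    obtain ⟨a', ha', k', hk', hrk⟩ := h.mem_sylS.1 (show r ∈ h.sylS T by
      have := hnP r' ⟨_, hr'mem, rfl⟩
      rwa [show n * r' * n⁻¹ = r by rw [hr']; group] at this)
    have hz : a⁻¹ * (a' * a') ∈ Subgroup.center Co0 := by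
      refine h.prod_unique (k := k'.1 * k'.1) (l := k.1) (mul_mem k'.2 k'.2) k.2 ?_
      rw [← hak, ← hr2, hrk, map_mul,
        show i a' * k'.1 * (i a' * k'.1) = i a' * (k'.1 * i a') * k'.1 by group, h.comm k'.2]
      group
    refine no_root_signs ha ha' haa ?_ fun s hs hsa => ?_
    · rcases mem_center.1 hz with e | e
      · left; exact (inv_mul_eq_one.1 e).symm
      · right; rw [← e, mul_inv_cancel_left]
    · have hsS : i s ∈ h.sylS T :=
        h.mem_sylS.2 ⟨s, CoOneAut.signs_le_sylZero hs, 1, one_mem _, (mul_one _).symm⟩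
      have hsv : i s * v = v * i s := by
        rw [hak, ← mul_assoc, ← map_mul, hsa, map_mul, mul_assoc, ← h.comm k.2, ← mul_assoc]
      -- the Sylow subgroup is the whole centraliser in the two-group
      set Q := (h.sylS T).map (MulAut.conj n⁻¹).toMonoidHom ⊓ M with hQ
      have hQp : IsPGroup 2 (Q.subgroupOf M) :=
        (((h.isPGroup_sylS T).map _).to_le inf_le_left).of_equiv
          (Subgroup.subgroupOfEquivOfLe inf_le_right).symm
      have hPQ : (P : Subgroup M) ≤ Q.subgroupOf M := fun y hy =>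
        ⟨⟨n * y.1 * n⁻¹, hnP _ ⟨y, hy, rfl⟩, by
          show n⁻¹ * (n * y.1 * n⁻¹) * n⁻¹⁻¹ = y.1; group⟩, y.2⟩
      have hcn : n⁻¹ * c * n = c := by
        conv_lhs => rw [← hnc]
        group
      have hy : n⁻¹ * i s * n ∈ M := by
        refine Subgroup.mem_inf.2 ⟨?_, ?_⟩
        · rw [Subgroup.mem_centralizer_singleton_iff]
          have hs' : i s * c = c * i s := by
            rw [hcdef, ← map_mul, ← map_mul, Subgroup.mem_center_iff.1 negAll_center s]
          rw [← hcn]
          rw [show n⁻¹ * i s * n * (n⁻¹ * c * n) = n⁻¹ * (i s * c) * n by group, hs']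
          group
        · rw [Subgroup.mem_centralizer_singleton_iff]
          rw [show u = n⁻¹ * v * n by rw [hv]; group,
            show n⁻¹ * i s * n * (n⁻¹ * v * n) = n⁻¹ * (i s * v) * n by group, hsv]
          group
      have hyP : (⟨_, hy⟩ : M) ∈ (P : Subgroup M) := by
        rw [← P.is_maximal' hQp hPQ]
        exact ⟨⟨i s, hsS, by show n⁻¹ * i s * n⁻¹⁻¹ = n⁻¹ * i s * n; rw [inv_inv]⟩, hy⟩
      have hcomm := hrP1 (i s) ⟨n⁻¹ * i s * n, ⟨_, hyP, rfl⟩, by
        show n * (n⁻¹ * i s * n) * n⁻¹ = i s; group⟩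
      rw [hrk, mul_assoc, h.comm k'.2, ← mul_assoc, ← mul_assoc, mul_left_inj, ← map_mul, ← map_mul]
        at hcomm
      exact (h.inj hcomm).symm

theorem normal (hO : Cfsg.oddCore G = ⊥) : A.Normal := by
  haveI : Fact (Nat.Prime 2) := ⟨Nat.prime_two⟩
  set c := i negAll with hcdef
  have hc2 : c * c = 1 := by rw [hcdef, ← map_mul, negAll_sq, map_one]
  have hord : orderOf c = 2 := orderOf_eq_prime (by rw [pow_two, hc2])
    fun e => negAll_ne_one (h.inj (e.trans (map_one i).symm))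
  have hz : IsPGroup 2 (Subgroup.zpowers c) :=
    IsPGroup.of_card (n := 1) (by rw [Nat.card_zpowers, hord, pow_one])
  obtain ⟨P, hP⟩ := hz.exists_le_sylow
  have hcP : c ∈ (P : Subgroup G) := hP (Subgroup.mem_zpowers c)
  set X := (Subgroup.centralizer ({c} : Set G)).subgroupOf (P : Subgroup G) with hX
  have hXtop : X = ⊤ := by
    by_contra hne
    haveI : Group.IsNilpotent (P : Subgroup G) := P.isPGroup'.isNilpotent
    have hlt := Group.normalizerCondition_of_isNilpotent (G := (P : Subgroup G)) X (lt_top_iff_ne_top.2 hne)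
    obtain ⟨y, hy, hyX⟩ := SetLike.exists_of_lt hlt
    refine hyX (Subgroup.mem_centralizer_singleton_iff.2 ?_)
    have hcX : (⟨c, hcP⟩ : (P : Subgroup G)) ∈ X := Subgroup.mem_centralizer_singleton_iff.2 rfl
    have h1 := Subgroup.mem_centralizer_singleton_iff.1 ((Subgroup.mem_normalizer_iff.1 hy _).1 hcX)
    exact mul_inv_eq_iff_eq_mul.1 (h.isolated h1.symm (g := y.1) rfl)
  have hPc : ∀ x ∈ (P : Subgroup G), x * c = c * x := fun x hx =>
    Subgroup.mem_centralizer_singleton_iff.1 (hXtop ▸ Subgroup.mem_top (⟨x, hx⟩ : (P : Subgroup G)) :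
      (⟨x, hx⟩ : (P : Subgroup G)) ∈ X)
  obtain ⟨N, hN, hodd, hcomm⟩ := H61.zStarTheorem P c hord hcP fun g hg =>
    h.isolated (hPc _ hg).symm rfl
  have hbot : N = ⊥ := le_bot_iff.1 (hO ▸ Cores.le_oddCore hodd)
  have hcen : ∀ g, c * g = g * c := fun g => by
    have := hcomm g
    rwa [hbot, Subgroup.mem_bot, mul_inv_eq_one, mul_inv_eq_iff_eq_mul] at this
  refine Subgroup.normalizer_eq_top_iff.1 (eq_top_iff.2 fun g _ => h.tight g (hcen g).symm)

end Ctx

end Cfsg.Agent.H92.CoZero
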