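import Cfsg.Agent.H92.CoZero.Orbit
import Cfsg.Agent.H92.CoOneAutFix
import Cfsg.Agent.H92.CoOneCentStruct
import Cfsg.Agent.H73.Conway.Main

/-!
Facts inside Co0: inner automorphisms, the elementary subgroup of signs in a Sylow 2-subgroup,
involutions, and no square roots over the fixed signs.
-/

set_option autoImplicit false
set_option maxRecDepth 100000

namespace Cfsg.Agent.H92.CoZero

open Cfsg Cfsg.Agent.Golay Cfsg.Agent.H92.LeechTwo
open Cfsg.Agent.H92.CoOneAut (mkG sgn signG monoG sylG sylTwo sylZero permG elab_unique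
  mem_fixedMasks fixedMasks exists_split permBar permBar_mk permBar_permG permBar_eq_one)
open scoped Pointwise symmDiff

attribute [local irreducible] codeList

lemma signAut_inj : Function.Injective (signAut : SignSet → Co0) := fun c d h =>
  congrArg Prod.snd (monoAut_injective (a₁ := ((1 : M24), c)) (a₂ := ((1 : M24), d)) h)

lemma signAut_add (a b : SignSet) : signAut a * signAut b = signAut (addS a b) := signAut_mul a b

lemma negAll_eq : negAll = signAut fullS := rfl

lemma negAll_center : negAll ∈ Subgroup.center Co0 :=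
  mem_center_of_scalar false fun v => (negAll_apply v).trans (by simp)

lemma negAll_sq : negAll * negAll = 1 :=
  signs_sq (center_le_crossStab negAll_center)

lemma mem_center {g : Co0} : g ∈ Subgroup.center Co0 ↔ g = 1 ∨ g = negAll :=
  ⟨CoOneCent.center_cases, fun h => by
    rcases h with rfl | rfl
    exacts [one_mem _, negAll_center]⟩

lemma mkG_eq_one {g : Co0} : mkG g = 1 ↔ g = 1 ∨ g = negAll :=
  (QuotientGroup.eq_one_iff g).trans mem_center

lemma negAll_ne_one : negAll ≠ 1 := CoOneCent.negAll_ne_one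

set_option maxHeartbeats 1000000 in
/-- Every automorphism of Co0 is inner. -/
theorem co0_aut (φ : MulAut Co0) : ∃ a, ∀ x, φ x = a * x * a⁻¹ := by
  have hchar : (Subgroup.center Co0).map φ.toMonoidHom = Subgroup.center Co0 :=
    Subgroup.characteristic_iff_map_eq.1 inferInstance φ
  set α : MulAut Spor.Co1 := QuotientGroup.congr _ _ φ hchar with hα
  have hαx : ∀ x, α (mkG x) = mkG (φ x) := fun x => QuotientGroup.congr_mk _ _ _ _ x
  obtain ⟨hsub, -⟩ := Nat.card_eq_one_iff_unique.1 CoOneAut.card_out_co1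
  obtain ⟨b, hb⟩ : α ∈ Inn Spor.Co1 :=
    (QuotientGroup.eq_one_iff α).1 (hsub.elim _ _)
  obtain ⟨a, rfl⟩ := QuotientGroup.mk'_surjective _ b
  refine ⟨a, fun x => ?_⟩
  have hc : ∀ y, a⁻¹ * φ y * a * y⁻¹ ∈ Subgroup.center Co0 := fun y => by
    refine (QuotientGroup.eq_one_iff _).1 ?_
    show mkG _ = 1
    rw [map_mul, map_mul, map_mul, map_inv, map_inv, ← hαx, ← hb, MulAut.conj_apply]
    group
  let ψ : Co0 →* Subgroup.center Co0 := MonoidHom.mk' (fun y => ⟨_, hc y⟩) fun y z => Subtype.ext (by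
    show a⁻¹ * φ (y * z) * a * (y * z)⁻¹ = (a⁻¹ * φ y * a * y⁻¹) * (a⁻¹ * φ z * a * z⁻¹)
    have := Subgroup.mem_center_iff.1 (hc z) y⁻¹
    calc a⁻¹ * φ (y * z) * a * (y * z)⁻¹
        = (a⁻¹ * φ y * a) * (a⁻¹ * φ z * a * z⁻¹ * y⁻¹) := by rw [map_mul]; group
      _ = _ := by rw [← this]; group)
  have hcomm : ∀ p q : Subgroup.center Co0, p * q = q * p := fun p q =>
    Subtype.ext (Subgroup.mem_center_iff.1 q.2 p.1)
  have hker : commutator ↥Co0 ≤ ψ.ker := by
    rw [commutator_def, Subgroup.commutator_le]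
    intro g _ k _
    rw [MonoidHom.mem_ker, map_commutatorElement, commutatorElement_def, hcomm (ψ g) (ψ k)]
    group
  rw [co0_perfect] at hker
  have h1 : a⁻¹ * φ x * a * x⁻¹ = 1 :=
    congrArg Subtype.val (MonoidHom.mem_ker.1 (hker (Subgroup.mem_top x)))
  rw [mul_inv_eq_one] at h1
  calc φ x = a * (a⁻¹ * φ x * a) * a⁻¹ := by group
    _ = a * x * a⁻¹ := by rw [h1]

/-- The signs are the only elementary abelian subgroup of order 2^11 of the Sylow subgroup. -/
theorem signG_unique {A : Subgroup Spor.Co1} (hA : A ≤ sylG)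
    (hc : ∀ a ∈ A, ∀ b ∈ A, a * b = b * a) (hsq : ∀ a ∈ A, a * a = 1)
    (hcard : 2048 ≤ Nat.card A) : A = signG := by
  classical
  haveI := CoOneAut.finite_co1
  set A0 := A.comap mkG with hA0
  have hcen : Subgroup.center Co0 ≤ A0 := fun z hz => by
    show mkG z ∈ A
    rw [show mkG z = 1 from (QuotientGroup.eq_one_iff z).2 hz]
    exact one_mem _
  have hmap : A0.map mkG = A :=
    Subgroup.map_comap_eq_self_of_surjective (QuotientGroup.mk'_surjective _) A
  have hcard0 : 4096 ≤ Nat.card A0 := by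
    rw [CoOneAut.card_map_mk hcen, hmap]; omega
  have hsub : ∀ g ∈ A0, g ∈ sylZero := by
    intro g hg
    have h : mkG g ∈ sylG := hA hg
    rw [sylG, ← Subgroup.mem_comap, Subgroup.comap_map_eq, QuotientGroup.ker_mk',
      sup_eq_left.2 (center_le_crossStab.trans CoOneAut.signs_le_sylZero)] at h
    exact h
  let inc : A0 →* crossStab := Subgroup.inclusion fun g hg => (CoOneAut.mem_sylZero (hsub g hg)).1
  let f : A0 →* Equiv.Perm GolayPt := M24.subtype.comp (permOf.comp inc)
  set U := f.range with hU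
  have hUP : U ≤ H63.M24Sylow.P0 := by
    rintro _ ⟨g, rfl⟩
    exact (CoOneAut.mem_sylZero (hsub g.1 g.2)).2
  have hker2 : ∀ g : A0, f g = 1 → g.1 ∈ signs := fun g hg =>
    ⟨inc g, MonoidHom.mem_ker.2 (Subtype.ext hg), rfl⟩
  have hker1 : ∀ g : A0, g.1 ∈ signs → f g = 1 := by
    rintro ⟨g, hg⟩ ⟨k, hk, hke⟩
    show (permOf (inc ⟨g, hg⟩)).1 = 1
    rw [show inc ⟨g, hg⟩ = k from Subtype.ext hke.symm, MonoidHom.mem_ker.1 hk]
    rfl
  by_cases hbot : U = ⊥
  · have hle : A0 ≤ signs := fun g hg =>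
      hker2 ⟨g, hg⟩ (Subgroup.mem_bot.1 (hbot ▸ (⟨⟨g, hg⟩, rfl⟩ : f ⟨g, hg⟩ ∈ U)))
    haveI : Finite Co0 := finite_co0
    have h2 : A0 = signs := Subgroup.eq_of_le_of_card_ge hle (by rw [card_signs]; exact hcard0)
    rw [← hmap, h2]
    rfl
  exfalso
  have hcen1 : ∀ g : A0, mkG g.1 = 1 → f g = 1 :=
    fun g hg => hker1 g (center_le_crossStab ((QuotientGroup.eq_one_iff _).1 hg))
  have hexp : ∀ u ∈ U, u * u = 1 := by
    rintro _ ⟨g, rfl⟩
    rw [← map_mul]
    refine hcen1 _ ?_
    show mkG (g.1 * g.1) = 1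
    rw [map_mul, hsq _ g.2]
  have hcomm : ∀ u ∈ U, ∀ v ∈ U, u * v = v * u := by
    rintro _ ⟨g, rfl⟩ _ ⟨h, rfl⟩
    have := hcen1 (g * h * (h * g)⁻¹) (by
      show mkG (g.1 * h.1 * (h.1 * g.1)⁻¹) = 1
      rw [map_mul, map_inv, map_mul, map_mul, hc _ g.2 _ h.2, mul_inv_cancel])
    rw [map_mul, map_inv, map_mul, map_mul, mul_inv_eq_one] at this
    exact this
  have hb := elab_bound U hUP hbot hexp hcomm (fixedMasks U) (fun m hm => by
    obtain ⟨hm1, hm2⟩ := mem_fixedMasks.1 hm
    exact ⟨hm1, fun x hx => by rw [← ptSet_full]; exact hm2 x hx⟩)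
  have hker : Nat.card f.ker ≤ (fixedMasks U).card := by
    have hex : ∀ g : f.ker, ∃ c : SignSet, g.1.1 = signAut c := fun g =>
      mem_signs.1 (hker2 g.1 (MonoidHom.mem_ker.1 g.2))
    choose cf hcf using hex
    have hmem : ∀ g : f.ker, maskOf (cf g).1 ∈ fixedMasks U := by
      intro g
      rw [mem_fixedMasks]
      refine ⟨mem_supports_iff.1 (cf g).2, ?_⟩
      rintro _ ⟨h, rfl⟩
      obtain ⟨e, he, σ, heσ⟩ := exists_split (x := mkG h.1) (CoOneAut.mk_mem_monoG.2 (inc h).2)
      have hσ : f h = σ.1 := by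
        show (permOf (inc h)).1 = σ.1
        have h0 : mkG.subgroupMap crossStab (inc h)
            = (⟨e, CoOneAut.signG_le he⟩ : monoG) * (⟨permG σ, CoOneAut.permG_mem σ⟩ : monoG) :=
          Subtype.ext heσ
        have h1 : permOf (inc h) = σ :=
          (permBar_mk (inc h)).symm.trans ((congrArg permBar h0).trans
            ((map_mul permBar _ _).trans
              (by rw [permBar_permG, permBar_eq_one.2 he, one_mul])))
        exact congrArg Subtype.val h1
      have hx : mkG g.1.1 = sgn (cf g) := congrArg mkG (hcf g)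
      have h2 : mkG h.1 * sgn (cf g) * (mkG h.1)⁻¹ = sgn (cf g) := by
        rw [← hx, hc _ h.2 _ g.1.2, mul_inv_cancel_right]
      rw [heσ, show e * permG σ * sgn (cf g) * (e * permG σ)⁻¹
        = e * (permG σ * sgn (cf g) * (permG σ)⁻¹) * e⁻¹ by group, CoOneAut.permG_conj,
        CoOneAut.signG_comm he (CoOneAut.sgn_mem _), mul_inv_cancel_right] at h2
      rw [hσ, ptSet_maskOf]
      rcases CoOneAut.sgn_eq_sgn h2.symm with r | r
      · left; rw [ptSet_maskOf] at r; exact r.symm
      · right; exact r.symm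
    rw [← Nat.card_eq_finsetCard]
    refine Nat.card_le_card_of_injective (fun g => ⟨_, hmem g⟩) fun a b hab => ?_
    refine Subtype.ext (Subtype.ext ?_)
    rw [hcf a, hcf b]
    have h := congrArg Subtype.val hab
    exact congrArg signAut (Subtype.ext ((ptSet_maskOf (cf a).1).symm.trans
      ((congrArg ptSet h).trans (ptSet_maskOf (cf b).1))))
  have htot : Nat.card f.ker * Nat.card U = Nat.card A0 := by
    rw [← f.ker.card_mul_index, Subgroup.index_ker]
  nlinarith [Nat.mul_le_mul_left (Nat.card U) hker]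

/-- Conjugate subgroups containing a fixed subgroup that is alone in each 2-group: fusion inside
the subgroup is controlled by its normaliser. -/
theorem fusion_normalizer {G : Type*} [Group G] [Finite G] (D : Subgroup G) (hD : IsPGroup 2 D)
    (hcomm : ∀ a ∈ D, ∀ b ∈ D, a * b = b * a) {x y g : G} (hx : x ∈ D) (hy : y ∈ D)
    (hg : g * x * g⁻¹ = y)
    (huniq : ∀ R : Subgroup G, IsPGroup 2 R → R ≤ Subgroup.centralizer {y} → D ≤ R →
      ∀ h : G, D.map (MulAut.conj h).toMonoidHom ≤ R → D.map (MulAut.conj h).toMonoidHom = D) :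
    ∃ n ∈ Subgroup.normalizer (D : Set G), n * x * n⁻¹ = y := by
  haveI : Fact (Nat.Prime 2) := ⟨Nat.prime_two⟩
  set C := Subgroup.centralizer ({y} : Set G) with hC
  have h1 : D ≤ C := fun a ha => Subgroup.mem_centralizer_singleton_iff.2 (hcomm a ha y hy)
  have h2 : D.map (MulAut.conj g).toMonoidHom ≤ C := by
    rintro _ ⟨a, ha, rfl⟩
    rw [hC, Subgroup.mem_centralizer_singleton_iff, ← hg]
    show MulAut.conj g a * MulAut.conj g x = MulAut.conj g x * MulAut.conj g a
    rw [← map_mul, ← map_mul, hcomm a ha x hx]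
  obtain ⟨R, hR⟩ := (hD.of_equiv (Subgroup.subgroupOfEquivOfLe h1).symm).exists_le_sylow
  obtain ⟨R', hR'⟩ := ((hD.map _).of_equiv (Subgroup.subgroupOfEquivOfLe h2).symm).exists_le_sylow
  obtain ⟨k, hk⟩ := MulAction.exists_smul_eq C R' R
  refine ⟨k.1 * g, ?_, ?_⟩
  · have hle : D.map (MulAut.conj (k.1 * g)).toMonoidHom ≤ (R : Subgroup C).map C.subtype := by
      rintro _ ⟨a, ha, rfl⟩
      have hm : (⟨_, h2 ⟨a, ha, rfl⟩⟩ : C) ∈ (R' : Subgroup C) := hR' ⟨a, ha, rfl⟩
      have := Subgroup.smul_mem_pointwise_smul _ (MulAut.conj k) _ hm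
      refine ⟨MulAut.conj k • (⟨_, h2 ⟨a, ha, rfl⟩⟩ : C), ?_, ?_⟩
      · rw [← hk]; exact this
      · show k.1 * (g * a * g⁻¹) * k.1⁻¹ = k.1 * g * a * (k.1 * g)⁻¹
        group
    have hRp : IsPGroup 2 ((R : Subgroup C).map C.subtype) := R.isPGroup'.map _
    have e := huniq _ hRp (Subgroup.map_subtype_le _)
      (fun a ha => ⟨⟨a, h1 ha⟩, hR ha, rfl⟩) _ hle
    rw [Subgroup.mem_normalizer_iff]
    intro a
    constructor
    · intro ha
      exact e ▸ ⟨a, ha, rfl⟩
    · intro ha
      rw [← e] at ha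
      obtain ⟨b, hb, hbe⟩ := ha
      rwa [show a = b from (MulAut.conj (k.1 * g)).injective hbe.symm]
  · have := Subgroup.mem_centralizer_singleton_iff.1 k.2
    rw [show k.1 * g * x * (k.1 * g)⁻¹ = k.1 * (g * x * g⁻¹) * k.1⁻¹ by group, hg, this,
      mul_inv_cancel_right]

/-- Conjugate signs in Co1 are conjugate by the code group. -/
theorem sgn_conj {c d : SignSet} {g : Spor.Co1} (h : g * sgn c * g⁻¹ = sgn d) :
    ∃ σ : M24, sgn ⟨σ.1 • c.1, smul_mem_supports σ.2 c.2⟩ = sgn d := by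
  haveI := CoOneAut.finite_co1
  haveI : Fact (Nat.Prime 2) := ⟨Nat.prime_two⟩
  have hp : IsPGroup 2 signG :=
    IsPGroup.of_card (CoOneAut.card_signG.trans (by norm_num : (2048 : ℕ) = 2 ^ 11))
  obtain ⟨n, hn, he⟩ := fusion_normalizer signG hp (fun a ha b hb => CoOneAut.signG_comm ha hb)
    (CoOneAut.sgn_mem c) (CoOneAut.sgn_mem d) h fun R hR _ hDR k hkR => by
      obtain ⟨S, hS⟩ := hR.exists_le_sylow
      obtain ⟨w, hw⟩ := MulAction.exists_smul_eq Spor.Co1 S sylTwo
      have key : ∀ E : Subgroup Spor.Co1, E ≤ R → (∀ a ∈ E, ∀ b ∈ E, a * b = b * a) →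
          (∀ a ∈ E, a * a = 1) → Nat.card E = 2048 →
          E.map (MulAut.conj w).toMonoidHom = signG := by
        intro E hE hc' hs' hcd
        refine signG_unique ?_ ?_ ?_ ?_
        · rintro _ ⟨a, ha, rfl⟩
          have := Subgroup.smul_mem_pointwise_smul _ (MulAut.conj w) _ (hS (hE ha))
          rw [← CoOneAut.coe_sylTwo, ← hw]
          exact this
        · rintro _ ⟨a, ha, rfl⟩ _ ⟨b, hb, rfl⟩
          rw [← map_mul, ← map_mul, hc' a ha b hb]
        · rintro _ ⟨a, ha, rfl⟩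
          rw [← map_mul, hs' a ha, map_one]
        · rw [Subgroup.card_map_of_injective (MulAut.conj w).injective, hcd]
      have e1 := key signG hDR (fun a ha b hb => CoOneAut.signG_comm ha hb)
        (fun a ha => CoOneAut.signG_sq ha) CoOneAut.card_signG
      have e2 := key _ hkR (by
          rintro _ ⟨a, ha, rfl⟩ _ ⟨b, hb, rfl⟩
          rw [← map_mul, ← map_mul, CoOneAut.signG_comm ha hb]) (by
          rintro _ ⟨a, ha, rfl⟩
          rw [← map_mul, CoOneAut.signG_sq ha, map_one]) (by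
          rw [Subgroup.card_map_of_injective (MulAut.conj k).injective, CoOneAut.card_signG])
      exact Subgroup.map_injective (MulAut.conj w).injective (e2.trans e1.symm)
  rw [CoOneAut.normalizer_signG] at hn
  obtain ⟨a, ha, σ, rfl⟩ := exists_split hn
  refine ⟨σ, ?_⟩
  rw [← he, show a * permG σ * sgn c * (a * permG σ)⁻¹
    = a * (permG σ * sgn c * (permG σ)⁻¹) * a⁻¹ by group, CoOneAut.permG_conj,
    CoOneAut.signG_comm ha (CoOneAut.sgn_mem _), mul_inv_cancel_right]

lemma aZero_facts : (codeList.contains 340831 && validT projInvTbl && inM24 projInvTbl &&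
    tblEq (tblMul projInvTbl projInvTbl) idTbl &&
    Nat.beq (tblImg projInvTbl 340831) (340831 ^^^ fullMask)) = true := by
  decide +kernel

/-- An element squaring to the central involution. -/
theorem exists_root : ∃ a : Co0, a * a = negAll := by
  have h := aZero_facts
  simp only [Bool.and_eq_true, Nat.beq_eq] at h
  obtain ⟨⟨⟨⟨hc, hv⟩, hm⟩, hsq⟩, he⟩ := h
  set σ : M24 := ⟨mkPerm projInvTbl, mem_M24_of_inM24 hm⟩
  set c := ofMask 340831 (List.contains_iff_mem.1 hc)
  have h2 : σ * σ = 1 := Subtype.ext (by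
    show mkPerm projInvTbl * mkPerm projInvTbl = 1
    rw [← (tblMul_spec hv hv).2, mkPerm_eq_of_tblEq (tblMul_spec hv hv).1 idTbl_spec.1 hsq,
      idTbl_spec.2])
  refine ⟨signAut c * permAut σ, ?_⟩
  have hinv : (permAut σ)⁻¹ = permAut σ := by
    rw [inv_eq_iff_mul_eq_one]
    exact ((map_mul LeechTwo.permHom σ σ).symm.trans (by rw [h2, map_one]))
  calc signAut c * permAut σ * (signAut c * permAut σ)
      = signAut c * (permAut σ * signAut c * (permAut σ)⁻¹) := by rw [hinv]; group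
    _ = negAll := by
      rw [Golay.conj_signAut, signAut_add, negAll_eq]
      refine congrArg signAut (Subtype.ext ?_)
      show ptSet 340831 ∆ (mkPerm projInvTbl • ptSet 340831) = Finset.univ
      rw [← ptSet_tblImg hv, he, ptSet_full]
      ext p
      simp [Finset.mem_symmDiff]

lemma sgn_card {c : SignSet} {σ : M24} {d : SignSet}
    (h : sgn ⟨σ.1 • c.1, smul_mem_supports σ.2 c.2⟩ = sgn d) :
    d.1.card = c.1.card ∨ d.1.card = 24 - c.1.card := by
  rcases CoOneAut.sgn_eq_sgn h with r | r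
  · left
    rw [ptSet_maskOf] at r
    rw [← r]
    exact Finset.card_smul_finset σ.1 c.1
  · right
    rw [ptSet_full, ptSet_maskOf] at r
    rw [← r, Finset.card_compl, Fintype.card_option, ZMod.card]
    exact congrArg (24 - ·) (Finset.card_smul_finset σ.1 c.1)

set_option maxHeartbeats 1000000 in
/-- Every non-central involution is conjugate to a sign change. -/
theorem invol_conj {u : Co0} (hu : u * u = 1) (hnc : u ∉ Subgroup.center Co0) :
    ∃ a, a * u * a⁻¹ ∈ signs := by
  haveI := CoOneAut.finite_co1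
  haveI : CoOneCent.bigQ.Normal := MonoidHom.normal_ker CoOneCent.chi
  obtain ⟨hS⟩ := H73.Conway.setup_of CoOneCent.orderOf_zBar CoOneCent.bigQ
    CoOneCent.genFitting_eq_bigQ CoOneCent.isExtraspecial_bigQ CoOneCent.card_bigQ
    (QuotientGroup.quotientKerEquivOfSurjective CoOneCent.chi CoOneCent.chi_surjective)
    CoOneCent.exists_conj_mem
  obtain ⟨k1, k2, k3, -, -, -, -, -, -, hcls⟩ := H73.Conway.three_classes hS
  have hord : ∀ x : Spor.Co1, x * x = 1 → x ≠ 1 → orderOf x = 2 := fun x h h1 =>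
    orderOf_eq_prime (by rw [pow_two, h]) h1
  obtain ⟨o1, o2, ho1, -, ho12⟩ := witness (w := 12) (Or.inr (Or.inl rfl))
  obtain ⟨a0, ha0⟩ := exists_root
  have hsne : ∀ c : SignSet, c.1.card ≠ 0 → c.1.card ≠ 24 → sgn c ≠ 1 := by
    intro c h0 h24 e
    rcases mkG_eq_one.1 e with e | e
    · rw [show (1 : Co0) = signAut zeroS from by rw [← addS_self fullS, ← signAut_add, ← negAll_eq, negAll_sq]] at e
      exact h0 (by rw [signAut_inj e]; rfl)
    · exact h24 (by rw [signAut_inj (e.trans negAll_eq)]; simp [fullS, Fintype.card_option])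
  have hx0 : mkG a0 * mkG a0 = 1 := by rw [← map_mul, ha0]; exact mkG_eq_one.2 (Or.inr rfl)
  have hx1 : mkG a0 ≠ 1 := by
    intro e
    rcases mkG_eq_one.1 e with e | e <;> rw [e] at ha0
    · exact negAll_ne_one (by simpa using ha0.symm)
    · exact negAll_ne_one (ha0.symm.trans negAll_sq)
  -- a conjugate of a sign lifts to involutions only
  have hlift : ∀ (w : Spor.Co1) (c : SignSet) (v : Co0), w * mkG v * w⁻¹ = sgn c →
      ∃ a, a * v * a⁻¹ ∈ signs := by
    intro w c v e
    obtain ⟨a, rfl⟩ := QuotientGroup.mk'_surjective _ w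
    refine ⟨a, ?_⟩
    have : mkG (a * v * a⁻¹ * (signAut c)⁻¹) = 1 := by
      rw [map_mul, map_mul, map_mul, map_inv, map_inv, e]
      exact mul_inv_cancel (sgn c)
    have h : a * v * a⁻¹ * (signAut c)⁻¹ ∈ signs :=
      center_le_crossStab ((QuotientGroup.eq_one_iff _).1 this)
    simpa using mul_mem h (mem_signs.2 ⟨c, rfl⟩)
  have hnot : ∀ c, ¬ IsConj (mkG a0) (sgn c) := by
    intro c hc
    obtain ⟨w, e⟩ := isConj_iff.1 hc
    obtain ⟨a, ha⟩ := hlift w c a0 e
    have := signs_sq ha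
    rw [show a * a0 * a⁻¹ * (a * a0 * a⁻¹) = a * (a0 * a0) * a⁻¹ by group, ha0,
      conj_eq_one_iff] at this
    exact negAll_ne_one this
  have hod : ¬ IsConj (sgn o1) (sgn (addS o1 o2)) := by
    intro hc
    obtain ⟨w, e⟩ := isConj_iff.1 hc
    obtain ⟨σ, hσ⟩ := sgn_conj e
    rcases sgn_card hσ with h | h <;> omega
  have hm1 := hcls _ (hord _ (CoOneAut.signG_sq (CoOneAut.sgn_mem o1))
    (hsne o1 (by omega) (by omega)))
  have hm2 := hcls _ (hord _ (CoOneAut.signG_sq (CoOneAut.sgn_mem (addS o1 o2)))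
    (hsne (addS o1 o2) (by omega) (by omega)))
  have hm3 := hcls _ (hord _ hx0 hx1)
  have hx : mkG u ≠ 1 := fun e => hnc ((QuotientGroup.eq_one_iff _).1 e)
  have hxu := hcls _ (hord _ (by rw [← map_mul, hu, map_one]) hx)
  have t : ∀ {a b c : Spor.Co1}, IsConj a c → IsConj b c → IsConj a b :=
    fun h1 h2 => h1.trans h2.symm
  have hsign : (∃ c, IsConj (mkG u) (sgn c)) ∨ IsConj (mkG u) (mkG a0) := by
    rcases hm1 with p | p | p <;> rcases hm2 with q | q | q <;> rcases hm3 with r | r | r <;>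
      first
      | exact absurd (t p q) hod
      | exact absurd (t r p) (hnot _)
      | exact absurd (t r q) (hnot _)
      | (rcases hxu with s | s | s <;>
          first
          | exact Or.inl ⟨_, t s p⟩
          | exact Or.inl ⟨_, t s q⟩
          | exact Or.inr (t s r))
  rcases hsign with ⟨c, hc⟩ | hc
  · obtain ⟨w, e⟩ := isConj_iff.1 hc
    exact hlift w c u e
  · exfalso
    obtain ⟨w, e⟩ := isConj_iff.1 hc
    obtain ⟨a, rfl⟩ := QuotientGroup.mk'_surjective _ w
    rw [← map_inv, ← map_mul, ← map_mul] at e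
    have hz : mkG ((a * u * a⁻¹)⁻¹ * a0) = 1 := by rw [map_mul, map_inv, e, inv_mul_cancel]
    have hsq : a * u * a⁻¹ * (a * u * a⁻¹) = 1 := by
      rw [show a * u * a⁻¹ * (a * u * a⁻¹) = a * (u * u) * a⁻¹ by group, hu, mul_one,
        mul_inv_cancel]
    rcases mkG_eq_one.1 hz with h | h
    · rw [inv_mul_eq_one] at h
      exact negAll_ne_one (by rw [← ha0, ← h, hsq])
    · rw [inv_mul_eq_iff_eq_mul] at h
      refine negAll_ne_one ?_
      rw [← ha0, h, show a * u * a⁻¹ * negAll * (a * u * a⁻¹ * negAll)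
        = a * u * a⁻¹ * (negAll * (a * u * a⁻¹)) * negAll by group,
        ← Subgroup.mem_center_iff.1 negAll_center, ← mul_assoc, hsq, one_mul, negAll_sq]

/-- The normaliser of the signs is the monomial group. -/
theorem mem_crossStab_of_normalizes {g : Co0} (h : g ∈ Subgroup.normalizer (signs : Set Co0)) :
    g ∈ crossStab := by
  haveI : Finite Co0 := finite_co0
  refine CoOneAut.mk_mem_monoG.1 ?_
  rw [← CoOneAut.normalizer_signG, Subgroup.mem_normalizer_iff]
  intro y
  obtain ⟨y, rfl⟩ := QuotientGroup.mk'_surjective _ y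
  show mkG y ∈ signG ↔ mkG g * mkG y * (mkG g)⁻¹ ∈ signG
  rw [← map_inv, ← map_mul, ← map_mul, CoOneAut.mk_mem_signG, CoOneAut.mk_mem_signG]
  exact Subgroup.mem_normalizer_iff.1 h y

/-- The permutation of a monomial element. -/
lemma exists_form {g : Co0} (hg : g ∈ crossStab) :
    ∃ d σ, g = signAut d * permAut σ ∧
      (∀ e, g * signAut e * g⁻¹ = signAut ⟨σ.1 • e.1, smul_mem_supports σ.2 e.2⟩) ∧
      permOf ⟨g, hg⟩ = σ := by
  obtain ⟨a, ha, σ, e⟩ := split_crossStab hg
  obtain ⟨d, rfl⟩ := mem_signs.1 ha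
  refine ⟨d, σ, e, fun c => ?_, ?_⟩
  · rw [e, show signAut d * LeechTwo.permHom σ = signAut d * permAut σ from rfl,
      show signAut d * permAut σ * signAut c * (signAut d * permAut σ)⁻¹
        = signAut d * (permAut σ * signAut c * (permAut σ)⁻¹) * (signAut d)⁻¹ by group,
      Golay.conj_signAut, signs_comm (mem_signs.2 ⟨d, rfl⟩) (mem_signs.2 ⟨_, rfl⟩), mul_inv_cancel_right]
  · obtain ⟨k, hk, hke⟩ := mem_signs.2 ⟨d, rfl⟩
    have : (⟨g, hg⟩ : crossStab) = k * ⟨permAut σ, permAut_mem σ⟩ :=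
      Subtype.ext (e.trans (by rw [← hke]; rfl))
    rw [this, map_mul, MonoidHom.mem_ker.1 hk, one_mul, permOf_permAut]

/-- No square root over the fixed signs. -/
theorem no_root_signs {a a' : Co0} (ha : a ∈ sylZero) (ha' : a' ∈ sylZero)
    (hsq : a * a = negAll) (hroot : a' * a' = a ∨ a' * a' = a * negAll)
    (hcen : ∀ s ∈ signs, s * a = a * s → s * a' = a' * s) : False := by
  obtain ⟨hac, -⟩ := CoOneAut.mem_sylZero ha
  obtain ⟨hac', -⟩ := CoOneAut.mem_sylZero ha'
  obtain ⟨d, π, hae, haconj, haπ⟩ := exists_form hac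
  obtain ⟨d', σ, -, haconj', haσ⟩ := exists_form hac'
  have hneg : ∀ h, permOf ⟨negAll, h⟩ = 1 := fun h => by
    obtain ⟨k, hk, hke⟩ := center_le_crossStab negAll_center
    rw [show (⟨negAll, h⟩ : crossStab) = k from Subtype.ext hke.symm, MonoidHom.mem_ker.1 hk]
  have hπ2 : π * π = 1 := by
    rw [← haπ, ← map_mul]
    exact (congrArg permOf (Subtype.ext hsq : (⟨a, hac⟩ * ⟨a, hac⟩ : crossStab)
      = ⟨negAll, signs_le (center_le_crossStab negAll_center)⟩)).trans (hneg _)
  have hσπ : σ * σ = π := by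
    rw [← haσ, ← map_mul]
    rcases hroot with h | h
    · rw [← haπ]; exact congrArg permOf (Subtype.ext h)
    · rw [← haπ, show (⟨a', hac'⟩ * ⟨a', hac'⟩ : crossStab)
        = ⟨a, hac⟩ * ⟨negAll, signs_le (center_le_crossStab negAll_center)⟩ from Subtype.ext h,
        map_mul, hneg, mul_one]
  have hfree : ∀ p, π.1 p ≠ p := by
    have hd : addS d ⟨π.1 • d.1, smul_mem_supports π.2 d.2⟩ = fullS := by
      have hpinv : (permAut π)⁻¹ = permAut π := by
        rw [inv_eq_iff_mul_eq_one]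
        exact ((map_mul LeechTwo.permHom π π).symm.trans (by rw [hπ2, map_one]))
      apply signAut_inj
      rw [← signAut_add, ← Golay.conj_signAut, ← negAll_eq, ← hsq, hae, hpinv]
      group
    intro p hp
    have := congrArg (fun c : SignSet => p ∈ c.1) hd
    simp only [addS, fullS, Finset.mem_symmDiff, Finset.mem_univ, eq_iff_iff, iff_true] at this
    have h' : p ∈ π.1 • d.1 ↔ p ∈ d.1 := by
      conv_lhs => rw [← hp, mem_smul_finset_iff, Equiv.symm_apply_apply]
    tauto
  refine no_root π.2 (congrArg Subtype.val hσπ) (congrArg Subtype.val hπ2) hfree fun m hm hfix => ?_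
  set e := ofMask m hm
  have hea : signAut e * a = a * signAut e := by
    have := haconj e
    rw [show (⟨π.1 • e.1, smul_mem_supports π.2 e.2⟩ : SignSet) = e from Subtype.ext hfix,
      mul_inv_eq_iff_eq_mul] at this
    exact this.symm
  have hea' := hcen _ (mem_signs.2 ⟨e, rfl⟩) hea
  have := haconj' e
  rw [← hea', mul_inv_cancel_right] at this
  exact (congrArg Subtype.val (signAut_inj this)).symm

end Cfsg.Agent.H92.CoZero
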