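import Cfsg.Agent.H92.CoZero.Code

/-!
A group of linear permutations of the code words whose stabiliser of the full word is the group
of the code fixes the full word.
-/

set_option autoImplicit false
set_option maxRecDepth 100000

namespace Cfsg.Agent.H92.CoZero

open Cfsg Cfsg.Agent.Golay Cfsg.Agent.H63.M24Sylow Cfsg.Agent.H95
open Cfsg.Agent.H92.LeechTwo (SignSet)
open scoped Pointwise symmDiff

attribute [local irreducible] codeList

/-- The sum of two words. -/
def addS (a b : SignSet) : SignSet := ⟨a.1 ∆ b.1, symmDiff_mem_supports a.2 b.2⟩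

/-- The full word. -/
def fullS : SignSet := ⟨Finset.univ, univ_mem_supports⟩

/-- The empty word. -/
def zeroS : SignSet := ⟨∅, empty_mem_supports⟩

/-- Words as sign sets. -/
def ofMask (m : ℕ) (h : m ∈ codeList) : SignSet :=
  ⟨ptSet m, (ptSet_mem_supports_iff (codeList_lt h)).2 h⟩

/-- The action of the code group on the words. -/
def permS : M24 →* Equiv.Perm SignSet where
  toFun σ :=
    { toFun := fun c => ⟨σ.1 • c.1, smul_mem_supports σ.2 c.2⟩
      invFun := fun c => ⟨σ.1⁻¹ • c.1, smul_mem_supports (M24.inv_mem σ.2) c.2⟩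
      left_inv := fun c => Subtype.ext (inv_smul_smul _ _)
      right_inv := fun c => Subtype.ext (smul_inv_smul _ _) }
  map_one' := Equiv.ext fun c => Subtype.ext (one_smul _ _)
  map_mul' σ τ := Equiv.ext fun c => Subtype.ext (mul_smul σ.1 τ.1 c.1)

lemma permS_apply (σ : M24) (c : SignSet) : (permS σ c).1 = σ.1 • c.1 := rfl

lemma addS_self (a : SignSet) : addS a a = zeroS := Subtype.ext (symmDiff_self a.1)

lemma addS_zero (a : SignSet) : addS a zeroS = a := Subtype.ext (symmDiff_bot a.1)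

lemma addS_left (a b : SignSet) : addS a (addS a b) = b :=
  Subtype.ext (symmDiff_symmDiff_cancel_left a.1 b.1)

lemma addS_comm (a b : SignSet) : addS a b = addS b a := Subtype.ext (symmDiff_comm a.1 b.1)

lemma card_add_full (a : SignSet) : (addS a fullS).1.card = 24 - a.1.card := by
  show (a.1 ∆ Finset.univ).card = _
  rw [show a.1 ∆ Finset.univ = a.1ᶜ by ext; simp [Finset.mem_symmDiff], Finset.card_compl,
    Fintype.card_option, ZMod.card]

lemma eq_zeroS {a : SignSet} (h : a.1.card = 0) : a = zeroS := Subtype.ext (Finset.card_eq_zero.1 h)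

lemma eq_fullS {a : SignSet} (h : a.1.card = 24) : a = fullS :=
  Subtype.ext (Finset.eq_univ_of_card _ (h.trans (by simp [Fintype.card_option])))

lemma weight_cases (a : SignSet) (h0 : a ≠ zeroS) :
    a = fullS ∨ a.1.card = 8 ∨ a.1.card = 12 ∨ a.1.card = 16 := by
  rcases card_mem_supports a.2 with h | h | h | h | h
  · exact absurd (eq_zeroS h) h0
  all_goals first
    | exact Or.inl (eq_fullS h)
    | exact Or.inr (Or.inl h)
    | exact Or.inr (Or.inr (Or.inl h))
    | exact Or.inr (Or.inr (Or.inr h))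

/-- The code group is transitive on the words of a given weight. -/
lemma exists_permS {a b : SignSet} {w : ℕ} (hw : w = 8 ∨ w = 12 ∨ w = 16) (ha : a.1.card = w)
    (hb : b.1.card = w) : ∃ σ, permS σ a = b := by
  rcases hw with rfl | rfl | rfl
  · obtain ⟨σ, hσ⟩ := exists_M24_map_octad (o := a.1) (o' := b.1) ⟨a.2, ha⟩ ⟨b.2, hb⟩
    exact ⟨σ, Subtype.ext hσ⟩
  · obtain ⟨σ, hσ⟩ := exists_M24_map_dodecad (d := a.1) (d' := b.1) ⟨a.2, ha⟩ ⟨b.2, hb⟩
    exact ⟨σ, Subtype.ext hσ⟩
  · obtain ⟨σ, hσ⟩ := exists_M24_map_octad (o := (addS a fullS).1) (o' := (addS b fullS).1)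
      ⟨(addS a fullS).2, by rw [card_add_full, ha]⟩ ⟨(addS b fullS).2, by rw [card_add_full, hb]⟩
    refine ⟨σ, ?_⟩
    have e : (addS (permS σ a) fullS).1 = (addS b fullS).1 := by
      rw [← show σ.1 • (addS a fullS).1 = (addS b fullS).1 from hσ]
      show (σ.1 • a.1) ∆ Finset.univ = σ.1 • (a.1 ∆ Finset.univ)
      rw [show (σ.1 • a.1) ∆ Finset.univ = (σ.1 • a.1)ᶜ by ext; simp [Finset.mem_symmDiff],
        show a.1 ∆ Finset.univ = a.1ᶜ by ext; simp [Finset.mem_symmDiff], smul_compl]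
    have := congrArg (addS fullS) (Subtype.ext e : addS (permS σ a) fullS = addS b fullS)
    rwa [addS_comm _ fullS, addS_left, addS_comm _ fullS, addS_left] at this

lemma witness_facts : (let L := codeList.filter fun m => Nat.beq (popCnt m) 8;
    let a := L.headD 0;
    (L.any fun b => Nat.beq (popCnt (a ^^^ b)) 8) && (L.any fun b => Nat.beq (popCnt (a ^^^ b)) 12) &&
      (L.any fun b => Nat.beq (popCnt (a ^^^ b)) 16) && codeList.contains a &&
        Nat.beq (popCnt a) 8) = true := by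
  decide +kernel

lemma witness {w : ℕ} (hw : w = 8 ∨ w = 12 ∨ w = 16) :
    ∃ a b : SignSet, a.1.card = 8 ∧ b.1.card = 8 ∧ (addS a b).1.card = w := by
  have h := witness_facts
  simp only [Bool.and_eq_true, List.any_eq_true, List.mem_filter, Nat.beq_eq] at h
  obtain ⟨⟨⟨⟨h8, h12⟩, h16⟩, hac⟩, ha⟩ := h
  obtain ⟨b, hb, hbw⟩ : ∃ b, (b ∈ codeList ∧ popCnt b = 8) ∧
      popCnt (((codeList.filter fun m => Nat.beq (popCnt m) 8).headD 0) ^^^ b) = w := by
    rcases hw with rfl | rfl | rfl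
    exacts [h8, h12, h16]
  refine ⟨ofMask _ (List.contains_iff_mem.1 hac), ofMask b hb.1, ?_, ?_, ?_⟩
  · exact (card_ptSet _).trans ha
  · exact (card_ptSet _).trans hb.2
  · show (ptSet _ ∆ ptSet b).card = w
    rw [← ptSet_xor, card_ptSet, hbw]

lemma dod_facts : ((sepList.all fun d => codeList.contains d && Nat.beq (popCnt d) 12) &&
    codeList.all fun t => !Nat.beq (popCnt t) 12 ||
      sepList.any fun d => Nat.beq (popCnt (d ^^^ t)) 8 || Nat.beq (popCnt (d ^^^ t)) 16) = true := by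
  decide +kernel

lemma dodecad_witness (d : SignSet) (hd : d.1.card = 12) :
    ∃ e : SignSet, e.1.card = 12 ∧ ((addS e d).1.card = 8 ∨ (addS e d).1.card = 16) := by
  have h := dod_facts
  simp only [Bool.and_eq_true, List.all_eq_true, List.any_eq_true, Bool.or_eq_true,
    Nat.beq_eq, Bool.not_eq_true', Bool.eq_false_iff] at h
  have hm : maskOf d.1 ∈ codeList := mem_supports_iff.1 d.2
  obtain ⟨u, hu, hw⟩ := (h.2 _ hm).resolve_left fun e => e (by rw [← card_ptSet, ptSet_maskOf, hd]; rfl)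
  obtain ⟨huc, hu12⟩ := h.1 u hu
  refine ⟨ofMask u (List.contains_iff_mem.1 huc), (card_ptSet u).trans hu12, ?_⟩
  show (ptSet u ∆ d.1).card = 8 ∨ (ptSet u ∆ d.1).card = 16
  rw [← ptSet_maskOf d.1, ← ptSet_xor, card_ptSet]
  exact hw

lemma permS_injective : Function.Injective permS := by
  rw [injective_iff_map_eq_one]
  intro σ hσ
  refine Subtype.ext (Equiv.ext fun i => ?_)
  by_contra hne
  obtain ⟨m, hm, hb⟩ := List.any_eq_true.1 (code_separates (σ.1 i) i hne)
  simp only [Bool.and_eq_true, Bool.not_eq_true'] at hb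
  obtain ⟨h1, h2⟩ := hb
  have := congrArg (fun e : Equiv.Perm SignSet => (e (ofMask m hm)).1) hσ
  change σ.1 • ptSet m = ptSet m at this
  have hmem : i ∈ ptSet m ↔ σ.1 i ∈ ptSet m := by
    conv_rhs => rw [← this, mem_smul_finset_iff, Equiv.symm_apply_apply]
  rw [mem_ptSet, mem_ptSet] at hmem
  simp_all

lemma card_words : Nat.card SignSet = 4096 := by
  show Nat.card ↑(supports (golayCode : Set (GolayPt → ZMod 2))) = 4096
  rw [Nat.card_coe_set_eq, supports_eq_image, ncard_ptSet_image codeList_nodup (fun m => codeList_lt),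
    codeList_length]

lemma fix_card {T : ℕ} (hT : validT T = true) (σ : M24) (hσ : σ.1 = mkPerm T) :
    Nat.card {c : SignSet // permS σ c = c} = wdCount T := by
  rw [wdCount, ← List.toFinset_card_of_nodup (codeList_nodup.filter _), ← Nat.card_eq_finsetCard]
  refine Nat.card_congr
    { toFun := fun c => ⟨maskOf c.1.1, ?_⟩
      invFun := fun m => ⟨ofMask m.1 (List.mem_of_mem_filter (List.mem_toFinset.1 m.2)), ?_⟩
      left_inv := fun c => Subtype.ext (Subtype.ext (ptSet_maskOf _))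
      right_inv := fun m => Subtype.ext ?_ }
  · refine List.mem_toFinset.2 (List.mem_filter.2 ⟨mem_supports_iff.1 c.1.2, ?_⟩)
    have h : σ.1 • c.1.1 = c.1.1 := congrArg Subtype.val c.2
    rw [show tblImg T (maskOf c.1.1) = maskOf c.1.1 from ptSet_injOn (tblImg_lt hT _)
      (codeList_lt (mem_supports_iff.1 c.1.2)) (by rw [ptSet_tblImg hT, ptSet_maskOf, ← hσ, h])]
    exact Nat.beq_refl _
  · refine Subtype.ext ?_
    obtain ⟨-, hm⟩ := List.mem_filter.1 (List.mem_toFinset.1 m.2)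
    show σ.1 • ptSet m.1 = ptSet m.1
    rw [hσ, ← ptSet_tblImg hT, Nat.eq_of_beq_eq_true hm]
  · exact ptSet_injOn (codeList_lt (mem_supports_iff.1
        (ofMask m.1 (List.mem_of_mem_filter (List.mem_toFinset.1 m.2))).2))
      (codeList_lt (List.mem_of_mem_filter (List.mem_toFinset.1 m.2))) (ptSet_maskOf _)

lemma fix_card_conj {α : Type*} (π y : Equiv.Perm α) :
    Nat.card {c // (π * y * π⁻¹) c = c} = Nat.card {c // y c = c} :=
  (Nat.card_congr (π.subtypeEquiv fun c => by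
    rw [Equiv.Perm.mul_apply, Equiv.Perm.mul_apply, Equiv.Perm.coe_inv, Equiv.symm_apply_apply,
      EmbeddingLike.apply_eq_iff_eq])).symm

/-- The central involution in the group of the code. -/
noncomputable def zM : M24 := ⟨zP, zP_mem_M24⟩

/-- The two classes of involutions seen on the words. -/
lemma invol_cases (σ : M24) (h2 : σ * σ = 1) (h1 : σ ≠ 1) :
    (IsConj zM σ ∧ Nat.card {c : SignSet // permS σ c = c} = 256) ∨
      Nat.card {c : SignSet // permS σ c = c} ≤ 128 := by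
  obtain ⟨hf⟩ := PLift.up count_facts
  simp only [Bool.and_eq_true, Nat.ble_eq, Nat.beq_eq] at hf
  obtain ⟨⟨⟨⟨⟨⟨hvE, hvF⟩, -⟩, -⟩, hE⟩, -⟩, hF⟩ := hf
  have h2' : σ.1 * σ.1 = 1 := congrArg Subtype.val h2
  have h1' : σ.1 ≠ 1 := fun e => h1 (Subtype.ext e)
  rcases fixed_octad σ.2 (by rw [pow_two, h2']) h1' with ho | h0
  · obtain ⟨k, hk, e⟩ := conj_invEight σ.2 h1' ho
    obtain ⟨b, hb, hbe⟩ := conj_invEight zP_mem_M24 zP_octad.2 zP_octad.1
    refine Or.inl ⟨isConj_iff.2 ⟨⟨k, hk⟩⁻¹ * ⟨b, hb⟩, Subtype.ext ?_⟩, ?_⟩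
    · show k⁻¹ * b * zP * (k⁻¹ * b)⁻¹ = σ.1
      rw [show k⁻¹ * b * zP * (k⁻¹ * b)⁻¹ = k⁻¹ * (b * zP * b⁻¹) * k by group, hbe, ← e]
      group
    · rw [← fix_card_conj (permS ⟨k, hk⟩), ← map_inv, ← map_mul, ← map_mul, fix_card hvE _ e]
      exact hE
  · obtain ⟨k, hk, e⟩ := conj_invFree σ.2 (by rw [pow_two, h2']) h0
    right
    rw [← fix_card_conj (permS ⟨k, hk⟩), ← map_inv, ← map_mul, ← map_mul, fix_card hvF _ e]
    exact hF

lemma zM_fix : Nat.card {c : SignSet // permS zM c = c} = 256 ∧ zM * zM = 1 ∧ zM ≠ 1 := by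
  have h2 : zM * zM = 1 := Subtype.ext zP_sq
  have h1 : zM ≠ 1 := fun e => zP_octad.2 (congrArg Subtype.val e)
  refine ⟨?_, h2, h1⟩
  obtain ⟨hf⟩ := PLift.up count_facts
  simp only [Bool.and_eq_true, Nat.ble_eq, Nat.beq_eq] at hf
  obtain ⟨⟨⟨⟨⟨⟨hvE, -⟩, -⟩, -⟩, hE⟩, -⟩, -⟩ := hf
  obtain ⟨b, hb, hbe⟩ := conj_invEight zP_mem_M24 zP_octad.2 zP_octad.1
  rw [← fix_card_conj (permS ⟨b, hb⟩), ← map_inv, ← map_mul, ← map_mul, fix_card hvE _ hbe]
  exact hE

/-- A transitive group of linear permutations cannot have the code group as a stabiliser. -/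
theorem not_transitive (H : Subgroup (Equiv.Perm SignSet))
    (hlin : ∀ π ∈ H, π zeroS = zeroS) (hperm : ∀ σ, permS σ ∈ H)
    (hstab : ∀ π ∈ H, π fullS = fullS → ∃ σ, π = permS σ) :
    ¬ ∀ v : SignSet, v ≠ zeroS → ∃ π ∈ H, π fullS = v := by
  classical
  intro htr
  haveI : Fintype SignSet := Fintype.ofFinite _
  let V := {v : SignSet // v ≠ zeroS}
  let Cl := {y : Equiv.Perm SignSet // ∃ π ∈ H, y = π * permS zM * π⁻¹}
  have hfull : fullS ≠ zeroS := fun e => by
    have := congrArg (fun c : SignSet => c.1.card) e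
    simp [fullS, zeroS] at this
  have hclH : ∀ y : Cl, y.1 ∈ H := fun y => by
    obtain ⟨π, hπ, e⟩ := y.2
    rw [e]
    exact mul_mem (mul_mem hπ (hperm zM)) (inv_mem hπ)
  have hrow : ∀ y : Cl, Nat.card {v : V // y.1 v.1 = v.1} = 255 := by
    intro y
    have h256 : Nat.card {c : SignSet // y.1 c = c} = 256 := by
      obtain ⟨π, -, e⟩ := y.2
      rw [e, fix_card_conj, zM_fix.1]
    have e := Nat.card_congr (Equiv.sumCompl fun c : {c : SignSet // y.1 c = c} => c.1 = zeroS).symm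
    rw [Nat.card_sum, h256] at e
    have h1 : Nat.card {c : {c : SignSet // y.1 c = c} // c.1 = zeroS} = 1 := by
      haveI : Subsingleton {c : {c : SignSet // y.1 c = c} // c.1 = zeroS} :=
        ⟨fun a b => Subtype.ext (Subtype.ext (a.2.trans b.2.symm))⟩
      haveI : Nonempty {c : {c : SignSet // y.1 c = c} // c.1 = zeroS} :=
        ⟨⟨⟨zeroS, hlin _ (hclH y)⟩, rfl⟩⟩
      exact Nat.card_unique
    have h2 : Nat.card {v : V // y.1 v.1 = v.1}
        = Nat.card {c : {c : SignSet // y.1 c = c} // ¬ c.1 = zeroS} :=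
      Nat.card_congr
        { toFun := fun v => ⟨⟨v.1.1, v.2⟩, v.1.2⟩
          invFun := fun c => ⟨⟨c.1.1, c.2⟩, c.1.2⟩
          left_inv := fun _ => rfl
          right_inv := fun _ => rfl }
    omega
  have hcol : ∀ v : V, Nat.card {y : Cl // y.1 v.1 = v.1}
      = Nat.card {y : Cl // y.1 fullS = fullS} := by
    intro v
    obtain ⟨π, hπ, hv⟩ := htr v.1 v.2
    refine Nat.card_congr
      { toFun := fun y => ⟨⟨π⁻¹ * y.1.1 * π, ?_⟩, ?_⟩
        invFun := fun y => ⟨⟨π * y.1.1 * π⁻¹, ?_⟩, ?_⟩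
        left_inv := fun y => Subtype.ext (Subtype.ext (by
          show π * (π⁻¹ * y.1.1 * π) * π⁻¹ = y.1.1; group))
        right_inv := fun y => Subtype.ext (Subtype.ext (by
          show π⁻¹ * (π * y.1.1 * π⁻¹) * π = y.1.1; group)) }
    · obtain ⟨ρ, hρ, e⟩ := y.1.2
      exact ⟨π⁻¹ * ρ, mul_mem (inv_mem hπ) hρ, by rw [e]; group⟩
    · show π⁻¹ (y.1.1 (π fullS)) = fullS
      rw [hv, y.2, ← hv, Equiv.Perm.coe_inv, Equiv.symm_apply_apply]
    · obtain ⟨ρ, hρ, e⟩ := y.1.2
      exact ⟨π * ρ, mul_mem hπ hρ, by rw [e]; group⟩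
    · show π (y.1.1 (π⁻¹ v.1)) = v.1
      rw [← hv, Equiv.Perm.coe_inv, Equiv.symm_apply_apply, y.2]
  have hstarCard : Nat.card {y : Cl // y.1 fullS = fullS} ∣ Nat.card M24 := by
    have e : Nat.card (MulAction.orbit (ConjAct M24) zM)
        = Nat.card {y : Cl // y.1 fullS = fullS} := by
      refine Nat.card_congr (Equiv.ofBijective (fun τ => ⟨⟨permS τ.1, ?_⟩, ?_⟩) ⟨?_, ?_⟩)
      · obtain ⟨g, hg⟩ := τ.2
        refine ⟨permS (ConjAct.ofConjAct g), hperm _, ?_⟩
        rw [← map_inv, ← map_mul, ← map_mul]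
        exact congrArg permS hg.symm
      · exact Subtype.ext (Finset.ext fun p => by simp [permS_apply, fullS, mem_smul_finset_iff])
      · intro a b h
        exact Subtype.ext (permS_injective (congrArg (fun y => y.1.1) h))
      · rintro ⟨y, hy⟩
        obtain ⟨τ, hτ⟩ := hstab _ (hclH y) hy
        obtain ⟨π, -, e⟩ := y.2
        have hf : Nat.card {c : SignSet // permS τ c = c} = 256 := by
          rw [← hτ, e, fix_card_conj, zM_fix.1]
        have h2 : τ * τ = 1 := permS_injective (by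
          rw [map_mul, ← hτ, e, show π * permS zM * π⁻¹ * (π * permS zM * π⁻¹)
            = π * (permS zM * permS zM) * π⁻¹ by group, ← map_mul, zM_fix.2.1, map_one, mul_one,
            mul_inv_cancel])
        have h1 : τ ≠ 1 := fun h => by
          have hx : π * permS zM * π⁻¹ = 1 := by rw [← e, hτ, h, map_one]
          rw [conj_eq_one_iff] at hx
          exact zM_fix.2.2 (permS_injective (hx.trans (map_one _).symm))
        rcases invol_cases τ h2 h1 with ⟨hc, -⟩ | hle
        · exact ⟨⟨τ, (ConjAct.mem_orbit_conjAct).2 hc.symm⟩, Subtype.ext (Subtype.ext hτ.symm)⟩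
        · omega
    rw [← e, Nat.card_coe_set_eq, ← MulAction.index_stabilizer, ← Nat.card_congr ConjAct.toConjAct.toEquiv.symm]
    exact Subgroup.index_dvd_card _
  have htot : Nat.card Cl * 255 = Nat.card V * Nat.card {y : Cl // y.1 fullS = fullS} := by
    haveI : Fintype Cl := Fintype.ofFinite _
    have e1 := Nat.card_congr (Equiv.subtypeProdEquivSigmaSubtype fun (y : Cl) (v : V) => y.1 v.1 = v.1)
    have e2 := Nat.card_congr (Equiv.subtypeProdEquivSigmaSubtype fun (v : V) (y : Cl) => y.1 v.1 = v.1)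
    rw [Nat.card_sigma, Finset.sum_congr rfl (fun y _ => hrow y), Finset.sum_const,
      Finset.card_univ, smul_eq_mul, ← Nat.card_eq_fintype_card] at e1
    rw [Nat.card_sigma, Finset.sum_congr rfl (fun v _ => hcol v), Finset.sum_const,
      Finset.card_univ, smul_eq_mul, ← Nat.card_eq_fintype_card] at e2
    rw [← e1, ← e2]
    exact Nat.card_congr ((Equiv.prodComm Cl V).subtypeEquiv fun _ => Iff.rfl)
  have hV : Nat.card V = 4095 := by
    have e := Nat.card_congr (Equiv.sumCompl fun c : SignSet => c = zeroS).symm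
    rw [Nat.card_sum, card_words, Nat.card_unique] at e
    show Nat.card {v : SignSet // ¬ v = zeroS} = 4095
    omega
  rw [hV] at htot
  have h17 : 17 ∣ Nat.card {y : Cl // y.1 fullS = fullS} :=
    (show Nat.Coprime 17 4095 by norm_num).dvd_of_dvd_mul_left ⟨Nat.card Cl * 15, by
      rw [← htot]; ring⟩
  have := h17.trans hstarCard
  rw [Agent.Golay.card_M24] at this
  norm_num at this

set_option maxHeartbeats 1000000 in
/-- A group of linear permutations of the words with the code group as the stabiliser of the full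
word fixes the full word. -/
theorem fixes_full (H : Subgroup (Equiv.Perm SignSet))
    (hadd : ∀ π ∈ H, ∀ a b, π (addS a b) = addS (π a) (π b)) (hperm : ∀ σ, permS σ ∈ H)
    (hstab : ∀ π ∈ H, π fullS = fullS → ∃ σ, π = permS σ) : ∀ π ∈ H, π fullS = fullS := by
  classical
  intro π₀ hπ₀
  by_contra hne
  have hlin : ∀ π ∈ H, π zeroS = zeroS := fun π hπ => by
    rw [← addS_self fullS, hadd π hπ, addS_self, addS_self]
  let O : Set SignSet := {v | ∃ π ∈ H, π fullS = v}
  have hFO : fullS ∈ O := ⟨1, one_mem _, rfl⟩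
  have hfull : fullS ≠ zeroS := fun e => by
    have := congrArg (fun c : SignSet => c.1.card) e
    simp [fullS, zeroS] at this
  have hmov : ∀ π ∈ H, ∀ v, π v ∈ O ↔ v ∈ O := by
    intro π hπ v
    constructor
    · rintro ⟨ρ, hρ, e⟩
      exact ⟨π⁻¹ * ρ, mul_mem (inv_mem hπ) hρ, by
        rw [Equiv.Perm.mul_apply, e, Equiv.Perm.coe_inv, Equiv.symm_apply_apply]⟩
    · rintro ⟨ρ, hρ, e⟩
      exact ⟨π * ρ, mul_mem hπ hρ, by rw [Equiv.Perm.mul_apply, e]⟩
  have hO0 : zeroS ∉ O := fun ⟨π, hπ, e⟩ => hfull (π.injective (e.trans (hlin π hπ).symm))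
  have hz : ∀ π ∈ H, ∀ v, π v = zeroS ↔ v = zeroS := fun π hπ v => by
    conv_lhs => rw [← hlin π hπ, EmbeddingLike.apply_eq_iff_eq]
  -- the three invariants
  let P : SignSet → Prop := fun v => ∃ a ∈ O, addS a v ∈ O
  let Q : SignSet → Prop := fun v => ∀ a ∈ O, a ≠ v → addS a v ∈ O
  let R : SignSet → Prop := fun v => ∃ a, a ∉ O ∧ a ≠ zeroS ∧ addS a v ∉ O ∧ addS a v ≠ zeroS
  have hinv : ∀ v ∈ O, (P v ↔ P fullS) ∧ (Q v ↔ Q fullS) ∧ (R v ↔ R fullS) := by
    rintro v ⟨π, hπ, rfl⟩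
    refine ⟨⟨?_, ?_⟩, ⟨?_, ?_⟩, ⟨?_, ?_⟩⟩
    · rintro ⟨a, ha, hb⟩
      obtain ⟨a, rfl⟩ := π.surjective a
      rw [← hadd π hπ, hmov π hπ] at hb
      exact ⟨a, (hmov π hπ a).1 ha, hb⟩
    · rintro ⟨a, ha, hb⟩
      exact ⟨π a, (hmov π hπ a).2 ha, by rw [← hadd π hπ, hmov π hπ]; exact hb⟩
    · intro h a ha hav
      have := h (π a) ((hmov π hπ a).2 ha) (fun e => hav (π.injective e))
      rwa [← hadd π hπ, hmov π hπ] at this
    · intro h a ha hav
      obtain ⟨a, rfl⟩ := π.surjective a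
      rw [← hadd π hπ, hmov π hπ]
      exact h a ((hmov π hπ a).1 ha) (fun e => hav (by rw [e]))
    · rintro ⟨a, h1, h2, h3, h4⟩
      obtain ⟨a, rfl⟩ := π.surjective a
      rw [← hadd π hπ] at h3 h4
      exact ⟨a, fun h => h1 ((hmov π hπ a).2 h), fun h => h2 ((hz π hπ a).2 h),
        fun h => h3 ((hmov π hπ _).2 h), fun h => h4 ((hz π hπ _).2 h)⟩
    · rintro ⟨a, h1, h2, h3, h4⟩
      exact ⟨π a, fun h => h1 ((hmov π hπ a).1 h), fun h => h2 ((hz π hπ a).1 h),
        by rw [← hadd π hπ]; exact fun h => h3 ((hmov π hπ _).1 h),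
        by rw [← hadd π hπ]; exact fun h => h4 ((hz π hπ _).1 h)⟩
  have hall : ∀ w, w = 8 ∨ w = 12 ∨ w = 16 →
      (∀ a : SignSet, a.1.card = w → a ∈ O) ∨ (∀ a : SignSet, a.1.card = w → a ∉ O) := by
    intro w hw
    by_cases h : ∃ a : SignSet, a.1.card = w ∧ a ∈ O
    · obtain ⟨a, ha, haO⟩ := h
      refine Or.inl fun b hb => ?_
      obtain ⟨σ, hσ⟩ := exists_permS hw ha hb
      rw [← hσ]; exact (hmov _ (hperm σ) a).2 haO
    · exact Or.inr fun a ha haO => h ⟨a, ha, haO⟩
  have hw24 : (fullS).1.card = 24 := by simp [fullS, Fintype.card_option]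
  have hdist : ∀ a b : SignSet, (addS a b).1.card ≠ 0 → a ≠ b := fun a b h e => h (by
    rw [e, addS_self]; rfl)
  obtain ⟨o1, o2, ho1, ho2, ho8⟩ := witness (w := 8) (Or.inl rfl)
  obtain ⟨p1, p2, hp1, hp2, hp12⟩ := witness (w := 12) (Or.inr (Or.inl rfl))
  obtain ⟨q1, q2, hq1, hq2, hq16⟩ := witness (w := 16) (Or.inr (Or.inr rfl))
  have h24 : ∀ a b : SignSet, addS (addS a fullS) (addS a b) = addS b fullS := fun a b => by
    refine Subtype.ext ?_
    show (a.1 ∆ Finset.univ) ∆ (a.1 ∆ b.1) = b.1 ∆ Finset.univ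
    rw [symmDiff_comm a.1 Finset.univ, symmDiff_assoc, symmDiff_symmDiff_cancel_left, symmDiff_comm]
  rcases hall 8 (Or.inl rfl) with b8 | b8 <;> rcases hall 12 (Or.inr (Or.inl rfl)) with b12 | b12 <;>
    rcases hall 16 (Or.inr (Or.inr rfl)) with b16 | b16
  · refine not_transitive H hlin hperm hstab fun v hv => ?_
    rcases weight_cases v hv with rfl | h | h | h
    exacts [hFO, b8 v h, b12 v h, b16 v h]
  · -- octads and dodecads
    have hR : R (addS o1 o2) := by
      refine ⟨addS o1 fullS, b16 _ (by rw [card_add_full, ho1]), fun e => ?_, ?_, ?_⟩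
      · have := card_add_full o1; rw [e, ho1] at this; exact absurd this (by decide)
      · rw [h24]; exact b16 _ (by rw [card_add_full, ho2])
      · rw [h24]; intro e; have := card_add_full o2; rw [e, ho2] at this; exact absurd this (by decide)
    obtain ⟨a, haO, ha0, hbO, -⟩ := (hinv _ (b8 _ ho8)).2.2.1 hR
    rcases weight_cases a ha0 with rfl | h | h | h
    exacts [haO hFO, haO (b8 a h), haO (b12 a h), hbO (b8 _ (by rw [card_add_full, h]))]
  · -- octads and 16-sets
    have hQ : Q fullS := by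
      intro a ha hne'
      rcases weight_cases a (fun e => hO0 (e ▸ ha)) with e | h | h | h
      exacts [absurd e hne', b16 _ (by rw [card_add_full, h]), absurd ha (b12 a h),
        b8 _ (by rw [card_add_full, h])]
    exact b12 _ hp12 ((hinv p2 (b8 p2 hp2)).2.1.2 hQ p1 (b8 p1 hp1) (hdist _ _ (by omega)))
  · -- octads
    obtain ⟨a, ha, hb⟩ := (hinv _ (b8 _ ho8)).1.1
      ⟨o1, b8 o1 ho1, by rw [addS_left]; exact b8 o2 ho2⟩
    rcases weight_cases a (fun e => hO0 (e ▸ ha)) with rfl | h | h | h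
    exacts [hO0 (by rwa [addS_self] at hb), b16 _ (by rw [card_add_full, h]) hb,
      b12 a h ha, b16 a h ha]
  · -- dodecads and 16-sets
    have hR : R (addS q1 q2) :=
      ⟨q1, b8 q1 hq1, fun e => absurd (e ▸ hq1) (by decide), by rw [addS_left]; exact b8 q2 hq2,
        by rw [addS_left]; exact fun e => absurd (e ▸ hq2) (by decide)⟩
    obtain ⟨a, haO, ha0, hbO, -⟩ := (hinv _ (b16 _ hq16)).2.2.1 hR
    rcases weight_cases a ha0 with rfl | h | h | h
    exacts [haO hFO, hbO (b16 _ (by rw [card_add_full, h])), haO (b12 a h), haO (b16 a h)]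
  · -- dodecads
    have hQ : Q fullS := by
      intro a ha hne'
      rcases weight_cases a (fun e => hO0 (e ▸ ha)) with e | h | h | h
      exacts [absurd e hne', absurd ha (b8 a h), b12 _ (by rw [card_add_full, h]),
        absurd ha (b16 a h)]
    obtain ⟨d0, hd0⟩ : ∃ d : SignSet, d.1.card = 12 := ⟨_, hp12⟩
    obtain ⟨e, he, hed⟩ := dodecad_witness d0 hd0
    have := (hinv d0 (b12 d0 hd0)).2.1.2 hQ e (b12 e he) (hdist _ _ (by omega))
    rcases hed with h | h
    exacts [b8 _ h this, b16 _ h this]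
  · -- 16-sets
    have hP : P (addS q1 q2) :=
      ⟨addS q1 fullS, b16 _ (by rw [card_add_full, hq1]),
        by rw [h24]; exact b16 _ (by rw [card_add_full, hq2])⟩
    obtain ⟨a, ha, hb⟩ := (hinv _ (b16 _ hq16)).1.1 hP
    rcases weight_cases a (fun e => hO0 (e ▸ ha)) with rfl | h | h | h
    exacts [hO0 (by rwa [addS_self] at hb), b8 a h ha, b12 a h ha,
      b8 _ (by rw [card_add_full, h]) hb]
  · rcases weight_cases (π₀ fullS) (fun e => hfull ((hz π₀ hπ₀ _).1 e)) with e | h | h | h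
    exacts [hne e, b8 _ h ⟨π₀, hπ₀, rfl⟩, b12 _ h ⟨π₀, hπ₀, rfl⟩, b16 _ h ⟨π₀, hπ₀, rfl⟩]

end Cfsg.Agent.H92.CoZero
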